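import Cfsg.Agent.Lib.Helper5.AutDO.BN2
import Cfsg.Agent.Lib.Lead.RootBN.RData
import Mathlib

/-!
# `Ω⁺_{2κ+4}`: the `(B, N)`-pair of the model (helper5)

The root subgroup data `DC.rdata` (lead's `RData`) of the model `Dm`, indexed by `Fin (κ + 2)` (the
chain nodes `0, …, κ`, then the fork node), and the `(B, N)`-pair `DC.bn`.
-/

set_option autoImplicit false

namespace Cfsg.Agent.Lib.Helper5.AutDO

open Matrix Cfsg Cfsg.Agent.Lib.Helper5.GLBN Cfsg.Agent.Lib.Helper8.SpBN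
open Cfsg.Agent.Lib.Helper8.Tw Cfsg.Agent.PSUT Cfsg.Agent.Lib.Helper5.AutSU
open DoubleCoset
open scoped MatrixGroups

variable {N : ℕ} {F : Type*} [Field F] [Fintype F]

namespace DC

variable (C : DC N)

/-- the representatives of the reflections: the chain nodes `0, …, κ`, then the fork node -/
noncomputable def nD (i : Fin (C.κ + 2)) : C.Dm F :=
  if h : (i : ℕ) ≤ C.κ then C.nC i h else C.nFD

theorem nD_le (i : Fin (C.κ + 2)) (h : (i : ℕ) ≤ C.κ) : (C.nD i : C.Dm F) = C.nC i h := dif_pos h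

theorem nD_fork (i : Fin (C.κ + 2)) (h : ¬ (i : ℕ) ≤ C.κ) : (C.nD i : C.Dm F) = C.nFD := dif_neg h

/-- the positive fundamental root subgroups -/
noncomputable def XD (i : Fin (C.κ + 2)) : Subgroup (C.Dm F) :=
  if (i : ℕ) ≤ C.κ then C.XC i else C.XF

theorem XD_le (i : Fin (C.κ + 2)) (h : (i : ℕ) ≤ C.κ) : C.XD (F := F) i = C.XC i := if_pos h

theorem XD_fork (i : Fin (C.κ + 2)) (h : ¬ (i : ℕ) ≤ C.κ) : C.XD (F := F) i = C.XF := if_neg h

/-- the negative fundamental root subgroups -/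
noncomputable def YD (i : Fin (C.κ + 2)) : Subgroup (C.Dm F) :=
  if (i : ℕ) ≤ C.κ then C.YC i else C.YF

theorem YD_le (i : Fin (C.κ + 2)) (h : (i : ℕ) ≤ C.κ) : C.YD (F := F) i = C.YC i := if_pos h

theorem YD_fork (i : Fin (C.κ + 2)) (h : ¬ (i : ℕ) ≤ C.κ) : C.YD (F := F) i = C.YF := if_neg h

/-- the permutations of the reflections -/
def rhoD (i : Fin (C.κ + 2)) : Equiv.Perm (Fin N) :=
  if (i : ℕ) ≤ C.κ then rho N i else C.rhoF

theorem rhoD_le (i : Fin (C.κ + 2)) (h : (i : ℕ) ≤ C.κ) : C.rhoD i = rho N i := if_pos h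

theorem rhoD_fork (i : Fin (C.κ + 2)) (h : ¬ (i : ℕ) ≤ C.κ) : C.rhoD i = C.rhoF := if_neg h

theorem isMono_nD (i : Fin (C.κ + 2)) :
    IsMono ((C.gd (C.nD i : C.Dm F) : GL (Fin N) F) : Matrix (Fin N) (Fin N) F) (C.rhoD i) := by
  by_cases h : (i : ℕ) ≤ C.κ
  · rw [nD_le _ _ h, rhoD_le _ _ h]
    exact C.isMono_nC h
  · rw [nD_fork _ _ h, rhoD_fork _ _ h]
    exact C.isMono_nFD

theorem rhoD_mul_self (i : Fin (C.κ + 2)) : C.rhoD i * C.rhoD i = 1 := by
  by_cases h : (i : ℕ) ≤ C.κ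
  · rw [rhoD_le _ _ h]
    exact rho_sq _ (by have := C.hN; omega)
  · rw [rhoD_fork _ _ h]
    exact C.rhoF_mul_self

theorem rhoD_injective : Function.Injective C.rhoD := by
  have hN := C.hN
  intro i j hij
  have hi := i.2
  have hj := j.2
  by_cases h1 : (i : ℕ) ≤ C.κ
  · by_cases h2 : (j : ℕ) ≤ C.κ
    · rw [rhoD_le _ _ h1, rhoD_le _ _ h2] at hij
      obtain ⟨x, hx⟩ : ∃ x : Fin N, (x : ℕ) = (i : ℕ) := ⟨⟨i, by omega⟩, rfl⟩
      have e := congrArg (fun p : Equiv.Perm (Fin N) => ((p x : Fin N) : ℕ)) hij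
      beta_reduce at e
      rw [rho_val_short (by omega), rho_val_short (by omega)] at e
      apply Fin.ext
      split_ifs at e <;> omega
    · exfalso
      rw [rhoD_le _ _ h1, rhoD_fork _ _ h2] at hij
      obtain ⟨x, hx⟩ : ∃ x : Fin N, (x : ℕ) = C.κ := ⟨⟨C.κ, by omega⟩, rfl⟩
      have e := congrArg (fun p : Equiv.Perm (Fin N) => ((p x : Fin N) : ℕ)) hij
      beta_reduce at e
      rw [rho_val_short (by omega), rhoF_val] at e
      split_ifs at e <;> omega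
  · by_cases h2 : (j : ℕ) ≤ C.κ
    · exfalso
      rw [rhoD_fork _ _ h1, rhoD_le _ _ h2] at hij
      obtain ⟨x, hx⟩ : ∃ x : Fin N, (x : ℕ) = C.κ := ⟨⟨C.κ, by omega⟩, rfl⟩
      have e := congrArg (fun p : Equiv.Perm (Fin N) => ((p x : Fin N) : ℕ)) hij
      beta_reduce at e
      rw [rho_val_short (by omega), rhoF_val] at e
      split_ifs at e <;> omega
    · apply Fin.ext
      omega

/-- the monomial subgroup of the model -/
noncomputable def ND : Subgroup (C.Dm F) := Subgroup.closure (Set.range C.nD) ⊔ C.TD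

/-- the underlying matrix, as a homomorphism -/
noncomputable def gdHom : C.Dm F →* GL (Fin N) F := (glHom N F (RingHom.id F)).comp (C.GD (F := F)).subtype

theorem gdHom_apply (g : C.Dm F) : C.gdHom g = C.gd g := rfl

theorem nD_mem_ND (i : Fin (C.κ + 2)) : C.nD i ∈ C.ND (F := F) :=
  Subgroup.mem_sup_left (Subgroup.subset_closure ⟨i, rfl⟩)

theorem TD_le_ND : C.TD (F := F) ≤ C.ND := le_sup_right

/-- the elements of the monomial subgroup are monomial -/
theorem exists_mono_of_mem_ND {ν : C.Dm F} (hν : ν ∈ C.ND) :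
    ∃ π : Equiv.Perm (Fin N),
      IsMono ((C.gd ν : GL (Fin N) F) : Matrix (Fin N) (Fin N) F) π := by
  have h : C.ND (F := F) ≤ (monoN N F).comap (C.gdHom (F := F)) := by
    unfold ND
    rw [sup_le_iff, Subgroup.closure_le]
    constructor
    · rintro _ ⟨i, rfl⟩
      exact ⟨C.rhoD i, C.isMono_nD i⟩
    · intro t ht
      exact ⟨1, isMono_of_mem_TT (C.mem_TD.1 ht)⟩
  exact h hν

theorem mem_TD_of_isMono {t : C.Dm F}
    (ht : IsMono ((C.gd t : GL (Fin N) F) : Matrix (Fin N) (Fin N) F) 1) : t ∈ C.TD :=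
  mem_TT_of_isMono ht

/-- `B ⊔ N = ⊤` -/
theorem BD_sup_ND : C.BD ⊔ C.ND = (⊤ : Subgroup (C.Dm F)) := by
  rw [eq_top_iff]
  have hnC : ∀ (j : ℕ) (hj : j ≤ C.κ), (C.nC j hj : C.Dm F) ∈ C.BD ⊔ C.ND := by
    intro j hj
    have := C.nD_mem_ND (F := F) ⟨j, by omega⟩
    rw [nD_le _ _ hj] at this
    exact Subgroup.mem_sup_right this
  have hnF : (C.nFD : C.Dm F) ∈ C.BD ⊔ C.ND := by
    have := C.nD_mem_ND (F := F) ⟨C.κ + 1, by omega⟩
    rw [nD_fork _ _ (by simp)] at this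
    exact Subgroup.mem_sup_right this
  have hyC : ∀ (j : ℕ) (hj : j ≤ C.κ) (t : F), C.yC j hj t ∈ C.BD ⊔ C.ND := by
    intro j hj t
    have e := C.nC_conj_xC hj (-t)
    rw [neg_neg] at e
    rw [← e]
    exact mul_mem (mul_mem (hnC j hj)
      (Subgroup.mem_sup_left (C.UD_le_BD (C.xC_mem_UD hj _)))) (inv_mem (hnC j hj))
  have hLL : ∀ (j : ℕ) (hj : j ≤ C.κ), LL N F (RingHom.id F) j
      ≤ (C.BD ⊔ C.ND).map (C.GD (F := F)).subtype := by
    intro j hj
    unfold LL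
    rw [Subgroup.closure_le]
    rintro g (hg | hg)
    · obtain ⟨t, rfl⟩ := (mem_Xp_short_iff idinv (C.hj_of_le hj)).1 hg
      exact ⟨C.xC j hj t, Subgroup.mem_sup_left (C.UD_le_BD (C.xC_mem_UD hj t)), rfl⟩
    · obtain ⟨t, rfl⟩ := (mem_Xm_short_iff idinv (C.hj_of_le hj)).1 hg
      exact ⟨C.yC j hj t, hyC j hj t, rfl⟩
  have key : C.GD (F := F) ≤ (C.BD ⊔ C.ND).map (C.GD (F := F)).subtype := by
    unfold GD
    rw [sup_le_iff]
    constructor
    · apply iSup_le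
      intro j
      exact hLL j (by have := j.2; omega)
    · rw [Subgroup.map_le_iff_le_comap]
      unfold LL
      rw [Subgroup.closure_le]
      rintro g (hg | hg)
      · obtain ⟨t, rfl⟩ := (mem_Xp_short_iff idinv (C.hj_of_le le_rfl)).1 hg
        refine ⟨C.GamD (C.xC C.κ le_rfl t), ?_, rfl⟩
        apply Subgroup.mem_sup_left
        apply C.UD_le_BD
        apply C.XF_le_UD
        rw [mem_XF, GamD_GamD]
        exact (C.mem_XC_iff le_rfl).2 ⟨t, rfl⟩
      · obtain ⟨t, rfl⟩ := (mem_Xm_short_iff idinv (C.hj_of_le le_rfl)).1 hg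
        refine ⟨C.GamD (C.yC C.κ le_rfl t), ?_, rfl⟩
        have e := C.nC_conj_xC (F := F) (le_refl C.κ) (-t)
        rw [neg_neg] at e
        rw [← e, map_mul, map_mul, map_inv, GamD_nC]
        refine mul_mem (mul_mem hnF ?_) (inv_mem hnF)
        apply Subgroup.mem_sup_left
        apply C.UD_le_BD
        apply C.XF_le_UD
        rw [mem_XF, GamD_GamD]
        exact (C.mem_XC_iff le_rfl).2 ⟨_, rfl⟩
  intro g _
  obtain ⟨g', hg', e⟩ := key g.2
  have : g' = g := Subtype.ext e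
  rw [← this]
  exact hg'

/-- the root subgroup data of the model -/
noncomputable def rdata : Cfsg.Agent.RootBN.RData (C.Dm F) (Fin (C.κ + 2)) where
  T := C.TD
  U := C.UD
  B := C.BD
  N := C.ND
  n := C.nD
  X := C.XD
  Uc i := C.UD ⊓ C.UD.comap (MulAut.conj (C.nD i)).toMonoidHom
  mem_B b := by
    constructor
    · intro hb
      exact C.exists_UT hb
    · rintro ⟨u, hu, t, ht, rfl⟩
      exact mul_mem (C.UD_le_BD hu) (C.TD_le_BD ht)
  T_norm t ht u hu := UU_normal _ (C.TD_le_BD ht) _ hu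
  T_le_N := C.TD_le_ND
  n_mem := C.nD_mem_ND
  B_inf_N := by
    rintro g ⟨hB, hN⟩
    obtain ⟨π, hπ⟩ := C.exists_mono_of_mem_ND hN
    have h1 : π = 1 := perm_eq_one_of_upper hπ hB
    rw [h1] at hπ
    exact C.mem_TD_of_isMono hπ
  N_le := le_rfl
  N_norm := by
    intro ν hν t ht
    obtain ⟨π, hπ⟩ := C.exists_mono_of_mem_ND hν
    apply C.mem_TD_of_isMono
    have h1 := (hπ.mul (isMono_of_mem_TT (C.mem_TD.1 ht))).mul hπ.inv
    rw [mul_one, mul_inv_cancel] at h1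
    rw [gd_mul, gd_mul, gd_inv, Units.val_mul, Units.val_mul]
    exact h1
  n_sq := by
    intro i
    apply C.mem_TD_of_isMono
    have h1 := (C.isMono_nD (F := F) i).mul (C.isMono_nD (F := F) i)
    rw [C.rhoD_mul_self] at h1
    rw [gd_mul, Units.val_mul]
    exact h1
  X_le := by
    intro i
    by_cases h : (i : ℕ) ≤ C.κ
    · rw [XD_le _ _ h]
      exact C.XC_le_UD i
    · rw [XD_fork _ _ h]
      exact C.XF_le_UD
  Uc_le i := inf_le_left
  U_eq := by
    intro i u hu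
    by_cases h : (i : ℕ) ≤ C.κ
    · rw [XD_le _ _ h, nD_le _ _ h]
      obtain ⟨x, hx, v, hv, hn, e⟩ := C.chain_U_eq h u hu
      exact ⟨x, hx, v, ⟨hv, hn⟩, e⟩
    · rw [XD_fork _ _ h, nD_fork _ _ h]
      obtain ⟨x, hx, v, hv, hn, e⟩ := C.fork_U_eq u hu
      exact ⟨x, hx, v, ⟨hv, hn⟩, e⟩
  n_Uc i v hv := hv.2
  rank_one := by
    intro i x hx
    by_cases h : (i : ℕ) ≤ C.κ
    · rw [XD_le _ _ h] at hx
      rw [nD_le _ _ h]
      exact C.chain_rank_one h x hx
    · rw [XD_fork _ _ h] at hx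
      rw [nD_fork _ _ h]
      exact C.fork_rank_one x hx
  dich := by
    intro ν hν i
    obtain ⟨π, hπ⟩ := C.exists_mono_of_mem_ND hν
    by_cases h : (i : ℕ) ≤ C.κ
    · rw [XD_le _ _ h, nD_le _ _ h]
      exact C.chain_dichD h hπ
    · rw [XD_fork _ _ h, nD_fork _ _ h]
      exact C.fork_dichD hπ
  gen := C.BD_sup_ND
  n_inj := by
    intro i j hij
    have h1 : IsMono ((C.gd ((C.nD i)⁻¹ * C.nD j : C.Dm F) : GL (Fin N) F) :
        Matrix (Fin N) (Fin N) F) ((C.rhoD i)⁻¹ * C.rhoD j) := by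
      rw [gd_mul, gd_inv, Units.val_mul]
      exact (C.isMono_nD i).inv.mul (C.isMono_nD j)
    have h2 := perm_eq_one_of_upper h1 hij
    rw [inv_mul_eq_one] at h2
    rw [C.rhoD_injective h2]
  nondeg := by
    intro i
    by_cases h : (i : ℕ) ≤ C.κ
    · rw [XD_le _ _ h, nD_le _ _ h]
      exact C.chain_nondeg h
    · rw [XD_fork _ _ h, nD_fork _ _ h]
      exact C.fork_nondeg

/-- **the `(B, N)`-pair of the model of `Ω⁺_{2κ+4}`** -/
noncomputable def bn : BNPair (C.Dm F) := (C.rdata (F := F)).bnPair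

theorem bn_B : (C.bn (F := F)).B = C.BD := rfl

theorem bn_N : (C.bn (F := F)).N = C.ND := rfl

theorem bn_S : (C.bn (F := F)).S = Set.range C.nD := rfl

end DC

end Cfsg.Agent.Lib.Helper5.AutDO
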