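import Cfsg.Agent.Lib.Helper5.AutDO.BN3
import Mathlib

/-!
# `Ω⁺_{2κ+4}`: the model is perfect (helper5)

The commutator relation `[x_{ab}(s), x_{bc}(t)] = x_{ac}(s t)` of the root elements of type `D`
(three indices with pairwise distinct mirrors), and the perfectness of the model `Dm` for
`1 ≤ κ` (rank at least three), over every finite field.
-/

set_option autoImplicit false

namespace Cfsg.Agent.Lib.Helper5.AutDO

open Matrix Cfsg Cfsg.Agent.Lib.Helper5.GLBN Cfsg.Agent.Lib.Helper8.SpBN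
open Cfsg.Agent.Lib.Helper8.Tw Cfsg.Agent.PSUT Cfsg.Agent.Lib.Helper5.AutSU
open scoped MatrixGroups

/-- the commutator of two unipotent elements with nilpotent parts `e`, `f` -/
theorem comm_of_nil {R : Type*} [Ring R] (e f : R) (he : e * e = 0) (hf : f * f = 0)
    (hefe : e * f * e = 0) (hfef : f * e * f = 0) :
    (1 + e) * (1 + f) * (1 - e) * (1 - f) = 1 + (e * f - f * e) := by
  have key : (1 + e) * (1 + f) * (1 - e) * (1 - f)
      = 1 + e * f - f * e - e * e - e * f * e - f * f - e * (f * f) + (e * e) * f + f * e * f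
        + (e * f * e) * f := by noncomm_ring
  rw [key, he, hf, hefe, hfef]
  noncomm_ring

variable {N : ℕ} {F : Type*} [Field F]

/-- the nilpotent part of a root element of type `D` -/
def eS (a b : Fin N) (c : F) : Matrix (Fin N) (Fin N) F :=
  Matrix.single a b c - Matrix.single b.rev a.rev c

theorem xS_coe_eq (a b : Fin N) (hab : a ≠ b) (hb : b ≠ b.rev) (c : F) :
    ((xS (RingHom.id F) a b hab c : GL (Fin N) F) : Matrix (Fin N) (Fin N) F) = 1 + eS a b c := by
  unfold xS eS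
  rw [Units.val_mul, tv_coe, tv_coe]
  unfold transvection
  rw [Matrix.add_mul, Matrix.one_mul, Matrix.mul_add, Matrix.mul_one,
    Matrix.single_mul_single_of_ne _ _ _ _ hb, add_zero, RingHom.id_apply, ← Matrix.single_neg]
  abel

theorem eS_mul_self (a b : Fin N) (hab : a ≠ b) (ha : a ≠ a.rev) (hb : b ≠ b.rev) (c : F) :
    eS a b c * eS a b c = 0 := by
  unfold eS
  have h1 : a.rev ≠ b.rev := fun h => hab (Fin.rev_injective h)
  rw [Matrix.sub_mul, Matrix.mul_sub, Matrix.mul_sub,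
    Matrix.single_mul_single_of_ne _ _ _ _ hab.symm, Matrix.single_mul_single_of_ne _ _ _ _ hb,
    Matrix.single_mul_single_of_ne _ _ _ _ ha.symm, Matrix.single_mul_single_of_ne _ _ _ _ h1]
  simp

theorem xS_inv_coe_eq (a b : Fin N) (hab : a ≠ b) (ha : a ≠ a.rev) (hb : b ≠ b.rev) (c : F) :
    (((xS (RingHom.id F) a b hab c)⁻¹ : GL (Fin N) F) : Matrix (Fin N) (Fin N) F)
      = 1 - eS a b c := by
  apply Units.inv_eq_of_mul_eq_one_right
  rw [xS_coe_eq a b hab hb]
  have h := eS_mul_self a b hab ha hb c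
  have e : (1 + eS a b c) * (1 - eS a b c) = 1 - eS a b c * eS a b c := by noncomm_ring
  rw [e, h, sub_zero]

/-- the data of three indices with pairwise distinct mirrors -/
structure Tri (a b c : Fin N) : Prop where
  ab : a ≠ b
  ac : a ≠ c
  bc : b ≠ c
  aa : a ≠ a.rev
  bb : b ≠ b.rev
  cc : c ≠ c.rev
  ab' : a ≠ b.rev
  ac' : a ≠ c.rev
  bc' : b ≠ c.rev

theorem eS_mul_eS {a b c : Fin N} (h : Tri a b c) (s t : F) :
    eS a b s * eS b c t = Matrix.single a c (s * t) := by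
  unfold eS
  have h1 : b ≠ c.rev := h.bc'
  have h2 : a.rev ≠ b := fun e => h.ab' (by rw [← e, Fin.rev_rev])
  have h3 : a.rev ≠ c.rev := fun e => h.ac (Fin.rev_injective e)
  rw [Matrix.sub_mul, Matrix.mul_sub, Matrix.mul_sub, Matrix.single_mul_single_same,
    Matrix.single_mul_single_of_ne _ _ _ _ h1, Matrix.single_mul_single_of_ne _ _ _ _ h2,
    Matrix.single_mul_single_of_ne _ _ _ _ h3]
  simp

theorem eS_mul_eS' {a b c : Fin N} (h : Tri a b c) (s t : F) :
    eS b c t * eS a b s = Matrix.single c.rev a.rev (t * s) := by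
  unfold eS
  have h1 : c ≠ a := h.ac.symm
  have h2 : c ≠ b.rev := fun e => h.bc' (by rw [e, Fin.rev_rev])
  have h3 : b.rev ≠ a := h.ab'.symm
  rw [Matrix.sub_mul, Matrix.mul_sub, Matrix.mul_sub, Matrix.single_mul_single_same,
    Matrix.single_mul_single_of_ne _ _ _ _ h1, Matrix.single_mul_single_of_ne _ _ _ _ h2,
    Matrix.single_mul_single_of_ne _ _ _ _ h3]
  simp

theorem eS_efe {a b c : Fin N} (h : Tri a b c) (s t : F) :
    eS a b s * eS b c t * eS a b s = 0 := by
  rw [eS_mul_eS h]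
  unfold eS
  have h1 : c ≠ a := h.ac.symm
  have h2 : c ≠ b.rev := fun e => h.bc' (by rw [e, Fin.rev_rev])
  rw [Matrix.mul_sub, Matrix.single_mul_single_of_ne _ _ _ _ h1,
    Matrix.single_mul_single_of_ne _ _ _ _ h2]
  simp

theorem eS_fef {a b c : Fin N} (h : Tri a b c) (s t : F) :
    eS b c t * eS a b s * eS b c t = 0 := by
  rw [eS_mul_eS' h]
  unfold eS
  have h1 : a.rev ≠ b := fun e => h.ab' (by rw [← e, Fin.rev_rev])
  have h2 : a.rev ≠ c.rev := fun e => h.ac (Fin.rev_injective e)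
  rw [Matrix.mul_sub, Matrix.single_mul_single_of_ne _ _ _ _ h1,
    Matrix.single_mul_single_of_ne _ _ _ _ h2]
  simp

/-- **the commutator relation** of the root elements of type `D` -/
theorem xS_comm {a b c : Fin N} (h : Tri a b c) (s t : F) :
    xS (RingHom.id F) a b h.ab s * xS (RingHom.id F) b c h.bc t
      * (xS (RingHom.id F) a b h.ab s)⁻¹ * (xS (RingHom.id F) b c h.bc t)⁻¹
      = xS (RingHom.id F) a c h.ac (s * t) := by
  apply Units.ext
  rw [Units.val_mul, Units.val_mul, Units.val_mul, xS_coe_eq a b h.ab h.bb,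
    xS_coe_eq b c h.bc h.cc, xS_inv_coe_eq a b h.ab h.aa h.bb, xS_inv_coe_eq b c h.bc h.bb h.cc,
    xS_coe_eq a c h.ac h.cc,
    comm_of_nil _ _ (eS_mul_self a b h.ab h.aa h.bb s) (eS_mul_self b c h.bc h.bb h.cc t)
      (eS_efe h s t) (eS_fef h s t), eS_mul_eS h, eS_mul_eS' h, mul_comm t s]
  rfl

/-- three indices in the first half with distinct values -/
theorem tri_of_lt {a b c : Fin N} (ha : 2 * (a : ℕ) + 1 < N) (hb : 2 * (b : ℕ) + 1 < N)
    (hc : 2 * (c : ℕ) + 1 < N) (hab : (a : ℕ) ≠ b) (hac : (a : ℕ) ≠ c) (hbc : (b : ℕ) ≠ c) :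
    Tri a b c where
  ab := fin_ne hab
  ac := fin_ne hac
  bc := fin_ne hbc
  aa := fin_ne (by rw [Fin.val_rev]; omega)
  bb := fin_ne (by rw [Fin.val_rev]; omega)
  cc := fin_ne (by rw [Fin.val_rev]; omega)
  ab' := fin_ne (by rw [Fin.val_rev]; omega)
  ac' := fin_ne (by rw [Fin.val_rev]; omega)
  bc' := fin_ne (by rw [Fin.val_rev]; omega)

section fin

variable [Fintype F]

/-- the root elements of type `D` in the unitary group -/
def xR (a b : Fin N) (hab : a ≠ b) (h1 : a ≠ b.rev) (h2 : a ≠ a.rev) (h3 : b ≠ b.rev) (c : F) :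
    SUm N F (RingHom.id F) :=
  mk1 (xS (RingHom.id F) a b hab c) (xS_mem_UH idinv a b hab h1 h2 h3 c) (det_xS _ a b hab c)

theorem gl_xR (a b : Fin N) (hab : a ≠ b) (h1 : a ≠ b.rev) (h2 : a ≠ a.rev) (h3 : b ≠ b.rev)
    (c : F) : gl (xR a b hab h1 h2 h3 c) = xS (RingHom.id F) a b hab c := rfl

theorem xR_mem_Sh (a b : Fin N) (hab : a ≠ b) (h1 : a ≠ b.rev) (h2 : a ≠ a.rev) (h3 : b ≠ b.rev)
    (c : F) : xR a b hab h1 h2 h3 c ∈ Sh N F (RingHom.id F) (PS a b) :=
  xS_mem_Sh idinv a b hab h1 h2 h3 c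

namespace DC

variable (C : DC N)

/-- a positive fundamental root element of a chain node before the last one is a commutator -/
theorem xC_eq_comm_lt {j : ℕ} (hj : j < C.κ) (t : F) :
    ∃ X Y : C.Dm F, C.xC j (le_of_lt hj) t = X * Y * X⁻¹ * Y⁻¹ := by
  have hN := C.hN
  have hT : Tri (⟨j, by omega⟩ : Fin N) ⟨j + 2, by omega⟩ ⟨j + 1, by omega⟩ :=
    tri_of_lt (by simp only; omega) (by simp only; omega) (by simp only; omega)
      (by simp only; omega) (by simp only; omega) (by simp only; omega)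
  have hX : xR (⟨j, by omega⟩ : Fin N) ⟨j + 2, by omega⟩ hT.ab hT.ab' hT.aa hT.bb (1 : F)
      ∈ C.GD (F := F) := by
    apply C.PS_le_GD _ _ _ _ (xR_mem_Sh _ _ _ _ _ _ _)
    · rw [Fin.lt_def]
      simp only
      omega
    · rw [Fin.lt_def, Fin.val_rev]
      simp only
      omega
  refine ⟨⟨_, hX⟩, C.yC (j + 1) (by omega) t, ?_⟩
  apply Subtype.ext
  apply gl_injective
  have h := xS_comm hT (1 : F) t
  rw [one_mul] at h
  exact h.symm

/-- a positive fundamental root element of a chain node after the first one is a commutator -/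
theorem xC_eq_comm_succ {j : ℕ} (hj : j + 1 ≤ C.κ) (t : F) :
    ∃ X Y : C.Dm F, C.xC (j + 1) hj t = X * Y * X⁻¹ * Y⁻¹ := by
  have hN := C.hN
  have hT : Tri (⟨j + 1, by omega⟩ : Fin N) ⟨j, by omega⟩ ⟨j + 2, by omega⟩ :=
    tri_of_lt (by simp only; omega) (by simp only; omega) (by simp only; omega)
      (by simp only; omega) (by simp only; omega) (by simp only; omega)
  have hY : xR (⟨j, by omega⟩ : Fin N) ⟨j + 2, by omega⟩ hT.bc hT.bc' hT.bb hT.cc t
      ∈ C.GD (F := F) := by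
    apply C.PS_le_GD _ _ _ _ (xR_mem_Sh _ _ _ _ _ _ _)
    · rw [Fin.lt_def]
      simp only
      omega
    · rw [Fin.lt_def, Fin.val_rev]
      simp only
      omega
  refine ⟨C.yC j (by omega) 1, ⟨_, hY⟩, ?_⟩
  apply Subtype.ext
  apply gl_injective
  have h := xS_comm hT (1 : F) t
  rw [one_mul] at h
  exact h.symm

theorem mem_commutator_of_eq {g : C.Dm F} (h : ∃ X Y : C.Dm F, g = X * Y * X⁻¹ * Y⁻¹) :
    g ∈ commutator (C.Dm F) := by
  obtain ⟨X, Y, rfl⟩ := h
  rw [commutator_def, ← commutatorElement_def]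
  exact Subgroup.commutator_mem_commutator (Subgroup.mem_top X) (Subgroup.mem_top Y)

theorem xC_mem_commutator (hκ : 1 ≤ C.κ) {j : ℕ} (hj : j ≤ C.κ) (t : F) :
    C.xC j hj t ∈ commutator (C.Dm F) := by
  apply C.mem_commutator_of_eq
  rcases Nat.eq_zero_or_pos j with h0 | h0
  · subst h0
    exact C.xC_eq_comm_lt (by omega) t
  · obtain ⟨j', rfl⟩ : ∃ j', j = j' + 1 := ⟨j - 1, by omega⟩
    exact C.xC_eq_comm_succ hj t

theorem yC_mem_commutator (hκ : 1 ≤ C.κ) {j : ℕ} (hj : j ≤ C.κ) (t : F) :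
    C.yC j hj t ∈ commutator (C.Dm F) := by
  have h := C.nC_conj_xC hj (-t)
  rw [neg_neg] at h
  rw [← h]
  exact (inferInstance : (commutator (C.Dm F)).Normal).conj_mem _
    (C.xC_mem_commutator hκ hj (-t)) _

/-- **the model is perfect** (rank at least three) -/
theorem perfect (hκ : 1 ≤ C.κ) : commutator (C.Dm F) = ⊤ := by
  have hGam : (commutator (C.Dm F)).map (C.GamD (F := F)).toMonoidHom = commutator (C.Dm F) :=
    (Subgroup.characteristic_iff_map_eq.1 inferInstance) C.GamD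
  have hLL : ∀ j, j ≤ C.κ → LL N F (RingHom.id F) j
      ≤ (commutator (C.Dm F)).map (C.GD (F := F)).subtype := by
    intro j hj
    unfold LL
    rw [Subgroup.closure_le]
    rintro x (hx | hx)
    · obtain ⟨t, rfl⟩ := (mem_Xp_short_iff idinv (C.hj_of_le hj)).1 hx
      exact ⟨C.xC j hj t, C.xC_mem_commutator hκ hj t, rfl⟩
    · obtain ⟨t, rfl⟩ := (mem_Xm_short_iff idinv (C.hj_of_le hj)).1 hx
      exact ⟨C.yC j hj t, C.yC_mem_commutator hκ hj t, rfl⟩
  have key : C.GD (F := F) ≤ (commutator (C.Dm F)).map (C.GD (F := F)).subtype := by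
    show ((⨆ j : Fin (C.κ + 1), LL N F (RingHom.id F) (j : ℕ))
      ⊔ (LL N F (RingHom.id F) C.κ).map (C.Gam (F := F)).toMonoidHom) ≤ _
    apply sup_le
    · apply iSup_le
      intro j
      exact hLL j (by have := j.2; omega)
    · rintro _ ⟨y, hy, rfl⟩
      obtain ⟨k, hk, rfl⟩ := hLL C.κ le_rfl hy
      refine ⟨C.GamD k, ?_, rfl⟩
      have h2 : C.GamD k ∈ (commutator (C.Dm F)).map (C.GamD (F := F)).toMonoidHom :=
        Subgroup.mem_map_of_mem _ hk
      rw [hGam] at h2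
      exact h2
  rw [eq_top_iff]
  intro g _
  obtain ⟨k, hk, e⟩ := key g.2
  have : k = g := Subtype.ext e
  rw [← this]
  exact hk

end DC

end fin

end Cfsg.Agent.Lib.Helper5.AutDO
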