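import Cfsg.Agent.Lib.Helper5.AutDO.Node
import Cfsg.Agent.Lib.Lead.RootBN.OQSharp
import Mathlib

/-!
# `Ω⁺_{2κ+4}`: the subgroups of the model (helper5)

The model as a type `Dm`, its subgroups `BD`, `UD`, `VD`, `TD`, the graph automorphism `GamD` of the
model, the decomposition `B = U T`.
-/

set_option autoImplicit false

namespace Cfsg.Agent.Lib.Helper5.AutDO

open Matrix Cfsg Cfsg.Agent.Lib.Helper5.GLBN Cfsg.Agent.Lib.Helper8.SpBN
open Cfsg.Agent.Lib.Helper8.Tw Cfsg.Agent.PSUT Cfsg.Agent.Lib.Helper5.AutSU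
open scoped MatrixGroups

variable {N : ℕ} {F : Type*} [Field F] [Fintype F]

/-- the diagonal entries of an upper triangular orthogonal matrix -/
theorem upper_diag_unitary {b : GL (Fin N) F} (hb : b ∈ upperTriangularGL N F)
    (hU : b ∈ UH N F (RingHom.id F)) (i : Fin N) :
    (b : Matrix (Fin N) (Fin N) F) i i * (b : Matrix (Fin N) (Fin N) F) i.rev i.rev = 1 := by
  have h := row_unitary hU i i.rev
  rw [Fin.rev_rev, if_pos rfl, Finset.sum_eq_single i] at h
  · exact h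
  · intro k _ hk
    rcases lt_or_gt_of_ne hk with h1 | h1
    · rw [(mem_upper.1 hb) i k h1, zero_mul]
    · rw [(mem_upper.1 hb) i.rev k.rev (Fin.rev_lt_rev.2 h1), map_zero, mul_zero]
  · intro h
    exact absurd (Finset.mem_univ _) h

/-- the diagonal part of an upper triangular orthogonal matrix is orthogonal -/
theorem dgOf_mem_UH {b : GL (Fin N) F} (hb : b ∈ upperTriangularGL N F)
    (hU : b ∈ UH N F (RingHom.id F)) : dgOf b hb ∈ UH N F (RingHom.id F) := by
  rw [mem_UH_iff]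
  intro a c
  rw [dgOf_inv_coe, dgOf_coe, RingHom.id_apply]
  by_cases hac : a = c
  · rw [hac, Matrix.diagonal_apply_eq, Matrix.diagonal_apply_eq]
    have h := upper_diag_unitary hb hU c
    exact eq_inv_of_mul_eq_one_left h
  · rw [Matrix.diagonal_apply_ne _ hac,
      Matrix.diagonal_apply_ne _ (fun e => hac (Fin.rev_injective e).symm)]

theorem isQ_dgOf {b : GL (Fin N) F} (hb : b ∈ upperTriangularGL N F)
    (hU : b ∈ UH N F (RingHom.id F)) :
    IsQ ((dgOf b hb : GL (Fin N) F) : Matrix (Fin N) (Fin N) F) := by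
  rw [dgOf_coe]
  exact isQ_diagonal _ (fun i => upper_diag_unitary hb hU i)

theorem mem_BB_iff_upper {g : SUm N F (RingHom.id F)} :
    g ∈ BB N F (RingHom.id F) ↔ gl g ∈ upperTriangularGL N F := Iff.rfl

namespace DC

variable (C : DC N)

/-- the model, as a type -/
abbrev Dm (C : DC N) (F : Type*) [Field F] [Fintype F] : Type _ := ↥(C.GD (F := F))

/-- the upper triangular elements of the model -/
noncomputable def BD : Subgroup (C.Dm F) := (BB N F (RingHom.id F)).subgroupOf C.GD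

/-- the upper unitriangular elements of the model -/
noncomputable def UD : Subgroup (C.Dm F) := (UU N F (RingHom.id F)).subgroupOf C.GD

/-- the lower unitriangular elements of the model -/
noncomputable def VD : Subgroup (C.Dm F) := (VV N F (RingHom.id F)).subgroupOf C.GD

/-- the diagonal elements of the model -/
noncomputable def TD : Subgroup (C.Dm F) := (TT N F (RingHom.id F)).subgroupOf C.GD

theorem mem_BD {g : C.Dm F} : g ∈ C.BD ↔ (g : SUm N F (RingHom.id F)) ∈ BB N F (RingHom.id F) :=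
  Iff.rfl

theorem mem_UD {g : C.Dm F} : g ∈ C.UD ↔ (g : SUm N F (RingHom.id F)) ∈ UU N F (RingHom.id F) :=
  Iff.rfl

theorem mem_VD {g : C.Dm F} : g ∈ C.VD ↔ (g : SUm N F (RingHom.id F)) ∈ VV N F (RingHom.id F) :=
  Iff.rfl

theorem mem_TD {g : C.Dm F} : g ∈ C.TD ↔ (g : SUm N F (RingHom.id F)) ∈ TT N F (RingHom.id F) :=
  Iff.rfl

theorem UD_le_BD : C.UD (F := F) ≤ C.BD := fun _ hg => UU_le_BB hg

theorem TD_le_BD : C.TD (F := F) ≤ C.BD := by
  intro g hg
  rw [mem_BD, mem_BB]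
  intro a b hba
  exact mem_TT.1 (C.mem_TD.1 hg) a b (ne_of_gt hba)

theorem mem_OD_of_mem {g : SUm N F (RingHom.id F)} (hg : g ∈ C.GD (F := F)) :
    IsQ ((gl g : GL (Fin N) F) : Matrix (Fin N) (Fin N) F) := mem_OD.1 (C.GD_le_OD hg)

/-- the entry at the two middle coordinates of an upper triangular element of the model vanishes -/
theorem upper_mid_zero {g : SUm N F (RingHom.id F)} (hg : g ∈ C.GD (F := F))
    (hB : g ∈ BB N F (RingHom.id F)) :
    ((gl g : GL (Fin N) F) : Matrix (Fin N) (Fin N) F) C.p1 C.p1.rev = 0 := by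
  have h := (C.mem_OD_of_mem hg).upper_mid (mem_BB.1 hB) C.p1
    (by rw [C.p1_val, C.p1_rev_val])
  rcases mul_eq_zero.1 h with h1 | h1
  · exact h1
  · exact absurd h1 (upper_diag_ne_zero (mem_BB_iff_upper.1 hB) _)

/-- the entry at the two middle coordinates of a lower unitriangular element of the model
vanishes -/
theorem lower_mid_zero {g : SUm N F (RingHom.id F)} (hg : g ∈ C.GD (F := F))
    (hV : g ∈ VV N F (RingHom.id F)) :
    ((gl g : GL (Fin N) F) : Matrix (Fin N) (Fin N) F) C.p1.rev C.p1 = 0 := by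
  have h := (C.mem_OD_of_mem hg).lower_mid (mem_VV.1 hV).1 C.p1
    (by rw [C.p1_val, C.p1_rev_val])
  rw [(mem_VV.1 hV).2, one_mul] at h
  exact h

/-- the only inversion of the swap of the two middle coordinates -/
theorem tau_inversion (a b : Fin N) (hba : b < a) (h : C.tau a < C.tau b) :
    a = C.p1.rev ∧ b = C.p1 := by
  rw [Fin.lt_def] at hba h
  rw [C.tau_val, C.tau_val] at h
  have h2 := C.p1_rev_val
  have h1 := C.p1_val
  constructor
  · apply Fin.ext
    rw [h2]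
    split_ifs at h <;> omega
  · apply Fin.ext
    rw [h1]
    split_ifs at h <;> omega

/-- the graph automorphism preserves the upper triangular elements of the model -/
theorem Gam_mem_BB {g : SUm N F (RingHom.id F)} (hg : g ∈ C.GD (F := F))
    (hB : g ∈ BB N F (RingHom.id F)) : C.Gam g ∈ BB N F (RingHom.id F) := by
  rw [mem_BB]
  intro a b hba
  rw [C.Gam_apply]
  rcases lt_trichotomy (C.tau a) (C.tau b) with h | h | h
  · obtain ⟨e1, e2⟩ := C.tau_inversion a b hba h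
    rw [e1, e2]
    unfold tau
    rw [Equiv.swap_apply_right, Equiv.swap_apply_left]
    exact C.upper_mid_zero hg hB
  · exact absurd (C.tau.injective h) (ne_of_gt hba)
  · exact mem_BB.1 hB _ _ h

theorem Gam_mem_UU {g : SUm N F (RingHom.id F)} (hg : g ∈ C.GD (F := F))
    (hU : g ∈ UU N F (RingHom.id F)) : C.Gam g ∈ UU N F (RingHom.id F) := by
  rw [mem_UU]
  refine ⟨mem_BB.1 (C.Gam_mem_BB hg (UU_le_BB hU)), fun a => ?_⟩
  rw [C.Gam_apply, (mem_UU.1 hU).2]

theorem Gam_mem_VV {g : SUm N F (RingHom.id F)} (hg : g ∈ C.GD (F := F))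
    (hV : g ∈ VV N F (RingHom.id F)) : C.Gam g ∈ VV N F (RingHom.id F) := by
  rw [mem_VV]
  refine ⟨fun a b hab => ?_, fun a => ?_⟩
  · rw [C.Gam_apply]
    rcases lt_trichotomy (C.tau b) (C.tau a) with h | h | h
    · obtain ⟨e1, e2⟩ := C.tau_inversion b a hab h
      rw [e1, e2]
      unfold tau
      rw [Equiv.swap_apply_right, Equiv.swap_apply_left]
      exact C.lower_mid_zero hg hV
    · exact absurd (C.tau.injective h).symm (ne_of_lt hab)
    · exact (mem_VV.1 hV).1 _ _ h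
  · rw [C.Gam_apply, (mem_VV.1 hV).2]

theorem Gam_mem_TT {g : SUm N F (RingHom.id F)}
    (hT : g ∈ TT N F (RingHom.id F)) : C.Gam g ∈ TT N F (RingHom.id F) := by
  rw [mem_TT]
  intro a b hab
  rw [C.Gam_apply]
  exact mem_TT.1 hT _ _ (fun e => hab (C.tau.injective e))

/-- the graph automorphism of the model -/
noncomputable def GamD : C.Dm F ≃* C.Dm F where
  toFun g := ⟨C.Gam g.1, C.Gam_mem_GD g.2⟩
  invFun g := ⟨C.Gam g.1, C.Gam_mem_GD g.2⟩
  left_inv g := Subtype.ext (C.Gam_Gam g.1)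
  right_inv g := Subtype.ext (C.Gam_Gam g.1)
  map_mul' g h := Subtype.ext (map_mul C.Gam g.1 h.1)

theorem GamD_coe (g : C.Dm F) : ((C.GamD g : C.Dm F) : SUm N F (RingHom.id F)) = C.Gam g.1 := rfl

theorem GamD_GamD (g : C.Dm F) : C.GamD (C.GamD g) = g := Subtype.ext (C.Gam_Gam g.1)

theorem GamD_mem_BD {g : C.Dm F} (hg : g ∈ C.BD) : C.GamD g ∈ C.BD := C.Gam_mem_BB g.2 hg

theorem GamD_mem_UD {g : C.Dm F} (hg : g ∈ C.UD) : C.GamD g ∈ C.UD := C.Gam_mem_UU g.2 hg

theorem GamD_mem_VD {g : C.Dm F} (hg : g ∈ C.VD) : C.GamD g ∈ C.VD := C.Gam_mem_VV g.2 hg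

theorem GamD_mem_TD {g : C.Dm F} (hg : g ∈ C.TD) : C.GamD g ∈ C.TD := C.Gam_mem_TT hg

/-- `B = U T` -/
theorem exists_UT {b : C.Dm F} (hb : b ∈ C.BD) : ∃ u ∈ C.UD, ∃ t ∈ C.TD, b = u * t := by
  have hbu : gl (b : SUm N F (RingHom.id F)) ∈ upperTriangularGL N F := hb
  have hbU : gl (b : SUm N F (RingHom.id F)) ∈ UH N F (RingHom.id F) := gl_mem_UH _
  have hdU := dgOf_mem_UH hbu hbU
  have huT := mem_UT_mul_dgOf_inv hbu
  have huU : gl (b : SUm N F (RingHom.id F)) * (dgOf _ hbu)⁻¹ ∈ UH N F (RingHom.id F) :=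
    mul_mem hbU (inv_mem hdU)
  have hdet : ((gl (b : SUm N F (RingHom.id F)) * (dgOf _ hbu)⁻¹ : GL (Fin N) F) :
      Matrix (Fin N) (Fin N) F).det = 1 :=
    det_of_isUpU ⟨mem_upper.1 huT.1, huT.2⟩
  set u0 : SUm N F (RingHom.id F) := mk1 _ huU hdet with hu0
  have hu0U : u0 ∈ UU N F (RingHom.id F) := mem_UU_iff_UT.2 huT
  have hQd : IsQ (((dgOf _ hbu)⁻¹ : GL (Fin N) F) : Matrix (Fin N) (Fin N) F) := by
    apply (isQ_dgOf hbu hbU).of_mul_eq_one
    rw [← Units.val_mul, mul_inv_cancel, Units.val_one]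
  have hu0Q : u0 ∈ OD N F := by
    rw [mem_OD, hu0, gl_mk1, Units.val_mul]
    exact (C.mem_OD_of_mem b.2).mul hQd
  have hu0G : u0 ∈ C.GD (F := F) := C.UD_le_GD ⟨hu0U, hu0Q⟩
  refine ⟨⟨u0, hu0G⟩, hu0U, (⟨u0, hu0G⟩ : C.Dm F)⁻¹ * b, ?_, by group⟩
  rw [mem_TD]
  apply mem_TT_of_isMono
  have e : gl (((⟨u0, hu0G⟩ : C.Dm F)⁻¹ * b : C.Dm F) : SUm N F (RingHom.id F))
      = dgOf _ hbu := by
    show gl (u0⁻¹ * (b : SUm N F (RingHom.id F))) = _
    rw [gl_mul, gl_inv, hu0, gl_mk1]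
    group
  rw [e]
  exact isMono_dgOf _ hbu

end DC

end Cfsg.Agent.Lib.Helper5.AutDO
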