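import Cfsg.Agent.Lib.Helper5.AutDO.BN1
import Mathlib

/-!
# `Ω⁺_{2κ+4}`: the nodes of the model (helper5)

The representatives `nC j` (chain) and `nFD` (fork) of the reflections, the root subgroups `XC j`,
`XF` in the model, and the facts of the nodes needed for the `(B, N)`-pair; the fork node is
transported from the chain node `κ` by the graph automorphism.
-/

set_option autoImplicit false

namespace Cfsg.Agent.Lib.Helper5.AutDO

open Matrix Cfsg Cfsg.Agent.Lib.Helper5.GLBN Cfsg.Agent.Lib.Helper8.SpBN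
open Cfsg.Agent.Lib.Helper8.Tw Cfsg.Agent.PSUT Cfsg.Agent.Lib.Helper5.AutSU
open DoubleCoset
open scoped MatrixGroups

variable {N : ℕ} {F : Type*} [Field F] [Fintype F]

namespace DC

variable (C : DC N)

theorem hj_of_le {j : ℕ} (hj : j ≤ C.κ) : 2 * j + 4 ≤ N := by
  have := C.hN
  omega

/-- the underlying matrix of an element of the model -/
def gd (g : C.Dm F) : GL (Fin N) F := gl (g : SUm N F (RingHom.id F))

theorem gd_mul (g h : C.Dm F) : C.gd (g * h) = C.gd g * C.gd h := gl_mul _ _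

theorem gd_inv (g : C.Dm F) : C.gd g⁻¹ = (C.gd g)⁻¹ := gl_inv _

theorem gd_mem_UH (g : C.Dm F) : C.gd g ∈ UH N F (RingHom.id F) := gl_mem_UH _

/-- the representative of the reflection of a chain node -/
def nC (j : ℕ) (hj : j ≤ C.κ) : C.Dm F := ⟨nS j (C.hj_of_le hj), C.nS_mem_GD hj⟩

/-- the representative of the reflection of the fork node -/
noncomputable def nFD : C.Dm F := ⟨C.nF, C.nF_mem_GD⟩

/-- the positive root subgroup of a chain node -/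
noncomputable def XC (j : ℕ) : Subgroup (C.Dm F) := (Xp N F (RingHom.id F) j).subgroupOf C.GD

/-- the negative root subgroup of a chain node -/
noncomputable def YC (j : ℕ) : Subgroup (C.Dm F) := (Xm N F (RingHom.id F) j).subgroupOf C.GD

/-- the positive root subgroup of the fork node -/
noncomputable def XF : Subgroup (C.Dm F) := (C.XC C.κ).map (C.GamD (F := F)).toMonoidHom

/-- the negative root subgroup of the fork node -/
noncomputable def YF : Subgroup (C.Dm F) := (C.YC C.κ).map (C.GamD (F := F)).toMonoidHom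

theorem mem_XC {j : ℕ} {g : C.Dm F} :
    g ∈ C.XC j ↔ (g : SUm N F (RingHom.id F)) ∈ Xp N F (RingHom.id F) j := Iff.rfl

theorem mem_YC {j : ℕ} {g : C.Dm F} :
    g ∈ C.YC j ↔ (g : SUm N F (RingHom.id F)) ∈ Xm N F (RingHom.id F) j := Iff.rfl

theorem mem_XF {g : C.Dm F} : g ∈ C.XF ↔ C.GamD g ∈ C.XC C.κ := by
  constructor
  · rintro ⟨x, hx, rfl⟩
    show C.GamD (C.GamD x) ∈ _
    rw [GamD_GamD]
    exact hx
  · intro h
    exact ⟨C.GamD g, h, C.GamD_GamD g⟩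

theorem mem_YF {g : C.Dm F} : g ∈ C.YF ↔ C.GamD g ∈ C.YC C.κ := by
  constructor
  · rintro ⟨x, hx, rfl⟩
    show C.GamD (C.GamD x) ∈ _
    rw [GamD_GamD]
    exact hx
  · intro h
    exact ⟨C.GamD g, h, C.GamD_GamD g⟩

theorem GamD_nC : C.GamD (C.nC C.κ le_rfl) = (C.nFD : C.Dm F) := rfl

theorem GamD_nFD : C.GamD (C.nFD : C.Dm F) = C.nC C.κ le_rfl := by
  rw [← GamD_nC, GamD_GamD]

/-- the positive root elements of a chain node, in the model -/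
def xC (j : ℕ) (hj : j ≤ C.κ) (t : F) : C.Dm F :=
  ⟨xpS idinv j (C.hj_of_le hj) t,
    C.LL_le_GD hj (Xp_le_LL j (xpS_mem_Xp idinv j (C.hj_of_le hj) t))⟩

/-- the negative root elements of a chain node, in the model -/
def yC (j : ℕ) (hj : j ≤ C.κ) (t : F) : C.Dm F :=
  ⟨xmS idinv j (C.hj_of_le hj) t,
    C.LL_le_GD hj (Xm_le_LL j (xmS_mem_Xm idinv j (C.hj_of_le hj) t))⟩

theorem mem_XC_iff {j : ℕ} (hj : j ≤ C.κ) {g : C.Dm F} : g ∈ C.XC j ↔ ∃ t : F, g = C.xC j hj t := by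
  rw [mem_XC, mem_Xp_short_iff idinv (C.hj_of_le hj)]
  constructor
  · rintro ⟨t, ht⟩
    exact ⟨t, Subtype.ext ht⟩
  · rintro ⟨t, rfl⟩
    exact ⟨t, rfl⟩

theorem mem_YC_iff {j : ℕ} (hj : j ≤ C.κ) {g : C.Dm F} : g ∈ C.YC j ↔ ∃ t : F, g = C.yC j hj t := by
  rw [mem_YC, mem_Xm_short_iff idinv (C.hj_of_le hj)]
  constructor
  · rintro ⟨t, ht⟩
    exact ⟨t, Subtype.ext ht⟩
  · rintro ⟨t, rfl⟩
    exact ⟨t, rfl⟩

theorem XC_le_UD (j : ℕ) : C.XC (F := F) j ≤ C.UD := fun _ hg => Xp_le_UU j hg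

theorem YC_le_VD (j : ℕ) : C.YC (F := F) j ≤ C.VD := fun _ hg => Xm_le_VV j hg

theorem XF_le_UD : C.XF (F := F) ≤ C.UD := by
  intro g hg
  have h := C.GamD_mem_UD (C.XC_le_UD C.κ (C.mem_XF.1 hg))
  rwa [GamD_GamD] at h

theorem YF_le_VD : C.YF (F := F) ≤ C.VD := by
  intro g hg
  have h := C.GamD_mem_VD (C.YC_le_VD C.κ (C.mem_YF.1 hg))
  rwa [GamD_GamD] at h

theorem isMono_nC {j : ℕ} (hj : j ≤ C.κ) :
    IsMono ((C.gd (C.nC j hj : C.Dm F) : GL (Fin N) F) : Matrix (Fin N) (Fin N) F) (rho N j) :=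
  isMono_nS j _

theorem isMono_nFD :
    IsMono ((C.gd (C.nFD : C.Dm F) : GL (Fin N) F) : Matrix (Fin N) (Fin N) F) C.rhoF :=
  C.isMono_nF

/-! ### the chain nodes -/

theorem nC_conj_xC {j : ℕ} (hj : j ≤ C.κ) (t : F) :
    C.nC j hj * C.xC j hj t * (C.nC j hj)⁻¹ = C.yC j hj (-t) :=
  Subtype.ext (nS_conj_xpS j _ t)

theorem yC_zero {j : ℕ} (hj : j ≤ C.κ) : C.yC j hj (0 : F) = 1 := by
  apply Subtype.ext
  show xmS idinv j (C.hj_of_le hj) 0 = 1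
  rw [xmS_eq_sO, Cfsg.Agent.AutPSU.loT_zero, map_one]

theorem xC_mem_UD {j : ℕ} (hj : j ≤ C.κ) (t : F) : C.xC j hj t ∈ C.UD (F := F) :=
  C.XC_le_UD j ((C.mem_XC_iff hj).2 ⟨t, rfl⟩)

/-- the torus elements of a chain node, in the model -/
noncomputable def hC (j : ℕ) (hj : j ≤ C.κ) (a : F) (ha : a ≠ 0) : C.Dm F :=
  ⟨hS j (C.hj_of_le hj) a ha, C.LL_le_GD hj (hS_mem_LL j _ a ha)⟩

theorem hC_mem_TD {j : ℕ} (hj : j ≤ C.κ) (a : F) (ha : a ≠ 0) : C.hC j hj a ha ∈ C.TD (F := F) :=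
  hS_mem_TT j (C.hj_of_le hj) a ha

theorem chain_U_eq {j : ℕ} (hj : j ≤ C.κ) (u : C.Dm F) (hu : u ∈ C.UD) :
    ∃ x ∈ C.XC j, ∃ v ∈ C.UD, C.nC j hj * v * (C.nC j hj)⁻¹ ∈ C.UD ∧ u = x * v := by
  obtain ⟨t, v, hv, e, hn⟩ := chain_split (C.hj_of_le hj) (C.mem_UD.1 hu)
  have hx : xpS idinv j (C.hj_of_le hj) t ∈ C.GD (F := F) := (C.xC j hj t).2
  have hvG : v ∈ C.GD (F := F) := by
    have e' : v = (xpS idinv j (C.hj_of_le hj) t)⁻¹ * (u : SUm N F (RingHom.id F)) := by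
      rw [e]
      group
    rw [e']
    exact mul_mem (inv_mem hx) u.2
  exact ⟨C.xC j hj t, (C.mem_XC_iff hj).2 ⟨t, rfl⟩, ⟨v, hvG⟩, hv, hn, Subtype.ext e⟩

theorem chain_rank_one {j : ℕ} (hj : j ≤ C.κ) (x : C.Dm F) (hx : x ∈ C.XC j) :
    C.nC j hj * x * (C.nC j hj)⁻¹ ∈ C.BD ∨
      C.nC j hj * x * (C.nC j hj)⁻¹ ∈ doubleCoset (C.nC j hj) (C.BD (F := F) : Set (C.Dm F)) (C.BD (F := F) : Set (C.Dm F)) := by
  obtain ⟨t, rfl⟩ := (C.mem_XC_iff hj).1 hx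
  rw [nC_conj_xC]
  by_cases ht : t = 0
  · left
    rw [ht, neg_zero, yC_zero]
    exact one_mem _
  · right
    have hc : -t ≠ 0 := neg_ne_zero.2 ht
    rw [mem_doubleCoset]
    refine ⟨C.xC j hj (-t)⁻¹, C.UD_le_BD (C.xC_mem_UD hj _),
      C.hC j hj (- -t) (neg_ne_zero.2 hc) * C.xC j hj (-t)⁻¹,
      mul_mem (C.TD_le_BD (C.hC_mem_TD hj _ _)) (C.UD_le_BD (C.xC_mem_UD hj _)), ?_⟩
    apply Subtype.ext
    show xmS idinv j (C.hj_of_le hj) (-t) = xpS idinv j (C.hj_of_le hj) (-t)⁻¹ * nS j (C.hj_of_le hj)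
      * (hS j (C.hj_of_le hj) (- -t) (neg_ne_zero.2 hc) * xpS idinv j (C.hj_of_le hj) (-t)⁻¹)
    rw [xmS_bruhat j (C.hj_of_le hj) (-t) hc]
    group

theorem chain_nondeg {j : ℕ} (hj : j ≤ C.κ) :
    ∃ x ∈ C.XC (F := F) j, C.nC j hj * x * (C.nC j hj)⁻¹ ∉ C.BD := by
  refine ⟨C.xC j hj 1, (C.mem_XC_iff hj).2 ⟨1, rfl⟩, ?_⟩
  rw [nC_conj_xC]
  intro h
  have hN := C.hN
  have h1 := mem_BB.1 (C.mem_BD.1 h) (⟨j + 1, by omega⟩ : Fin N) ⟨j, by omega⟩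
    (by rw [Fin.lt_def]; simp)
  have h2 : ((gl (xmS idinv j (C.hj_of_le hj) (-1 : F)) : GL (Fin N) F) :
      Matrix (Fin N) (Fin N) F) ⟨j + 1, by omega⟩ ⟨j, by omega⟩ = 0 := h1
  rw [gl_xmS, xS_apply _ _ _ _ (fin_ne (by rw [val_rev_mk]; simp only; omega)),
    if_neg (fin_ne (by simp)), if_pos ⟨rfl, rfl⟩, if_neg] at h2
  · simp at h2
  · rintro ⟨e1, -⟩
    have := congrArg Fin.val e1
    rw [val_rev_mk] at this
    simp only at this
    omega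

theorem chain_dichD {j : ℕ} (hj : j ≤ C.κ) {ν : C.Dm F} {π : Equiv.Perm (Fin N)}
    (hν : IsMono ((C.gd ν : GL (Fin N) F) : Matrix (Fin N) (Fin N) F) π) :
    (∀ x ∈ C.XC j, ν⁻¹ * x * ν ∈ C.UD) ∨
      (∀ x ∈ C.XC j, (C.nC j hj * ν)⁻¹ * x * (C.nC j hj * ν) ∈ C.UD) := by
  have hπ : ∀ x, π x.rev = (π x).rev :=
    (revC_eq_self_iff π).1 (Cfsg.Agent.RootBN.revC_of_mem_UH (C.gd_mem_UH ν) hν)
  rcases chain_dich (C.hj_of_le hj) hν hπ with h | h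
  · left
    intro x hx
    obtain ⟨t, rfl⟩ := (C.mem_XC_iff hj).1 hx
    exact h t
  · right
    intro x hx
    obtain ⟨t, rfl⟩ := (C.mem_XC_iff hj).1 hx
    exact h t

/-! ### the fork node -/

theorem fork_U_eq (u : C.Dm F) (hu : u ∈ C.UD) :
    ∃ x ∈ C.XF, ∃ v ∈ C.UD, C.nFD * v * (C.nFD)⁻¹ ∈ C.UD ∧ u = x * v := by
  obtain ⟨x, hx, v, hv, hn, e⟩ := C.chain_U_eq le_rfl (C.GamD u) (C.GamD_mem_UD hu)
  refine ⟨C.GamD x, C.mem_XF.2 (by rw [GamD_GamD]; exact hx), C.GamD v, C.GamD_mem_UD hv, ?_, ?_⟩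
  · have := C.GamD_mem_UD hn
    rw [map_mul, map_mul, map_inv, GamD_nC] at this
    exact this
  · rw [← map_mul, ← e, GamD_GamD]

theorem fork_rank_one (x : C.Dm F) (hx : x ∈ C.XF) :
    C.nFD * x * (C.nFD)⁻¹ ∈ C.BD ∨
      C.nFD * x * (C.nFD)⁻¹ ∈ doubleCoset (C.nFD : C.Dm F) (C.BD (F := F) : Set (C.Dm F)) (C.BD (F := F) : Set (C.Dm F)) := by
  have e : C.nFD * x * (C.nFD)⁻¹
      = C.GamD (C.nC C.κ le_rfl * C.GamD x * (C.nC C.κ le_rfl)⁻¹) := by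
    rw [map_mul, map_mul, map_inv, GamD_nC, GamD_GamD]
  rcases C.chain_rank_one le_rfl (C.GamD x) (C.mem_XF.1 hx) with h | h
  · left
    rw [e]
    exact C.GamD_mem_BD h
  · right
    rw [mem_doubleCoset] at h ⊢
    obtain ⟨b₁, hb₁, b₂, hb₂, e'⟩ := h
    refine ⟨C.GamD b₁, C.GamD_mem_BD hb₁, C.GamD b₂, C.GamD_mem_BD hb₂, ?_⟩
    rw [e, e', map_mul, map_mul, GamD_nC]

theorem fork_nondeg : ∃ x ∈ C.XF (F := F), C.nFD * x * (C.nFD)⁻¹ ∉ C.BD := by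
  obtain ⟨x, hx, h⟩ := C.chain_nondeg (F := F) (le_refl C.κ)
  refine ⟨C.GamD x, C.mem_XF.2 (by rw [GamD_GamD]; exact hx), ?_⟩
  intro h'
  apply h
  have := C.GamD_mem_BD h'
  rw [map_mul, map_mul, map_inv, GamD_nFD, GamD_GamD] at this
  exact this

theorem isMono_GamD {ν : C.Dm F} {π : Equiv.Perm (Fin N)}
    (hν : IsMono ((C.gd ν : GL (Fin N) F) : Matrix (Fin N) (Fin N) F) π) :
    IsMono ((C.gd (C.GamD ν) : GL (Fin N) F) : Matrix (Fin N) (Fin N) F)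
      (C.tau * π * C.tau) := by
  show IsMono ((gl (C.Gam (ν : SUm N F (RingHom.id F))) : GL (Fin N) F) :
    Matrix (Fin N) (Fin N) F) _
  rw [gl_Gam, ← map_inv, C.tau_inv, Units.val_mul, Units.val_mul]
  exact ((isMono_permGL C.tau).mul hν).mul (isMono_permGL C.tau)

theorem fork_dichD {ν : C.Dm F} {π : Equiv.Perm (Fin N)}
    (hν : IsMono ((C.gd ν : GL (Fin N) F) : Matrix (Fin N) (Fin N) F) π) :
    (∀ x ∈ C.XF, ν⁻¹ * x * ν ∈ C.UD) ∨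
      (∀ x ∈ C.XF, (C.nFD * ν)⁻¹ * x * (C.nFD * ν) ∈ C.UD) := by
  rcases C.chain_dichD le_rfl (C.isMono_GamD hν) with h | h
  · left
    intro x hx
    have := C.GamD_mem_UD (h _ (C.mem_XF.1 hx))
    rw [map_mul, map_mul, map_inv, GamD_GamD, GamD_GamD] at this
    exact this
  · right
    intro x hx
    have := C.GamD_mem_UD (h _ (C.mem_XF.1 hx))
    rw [map_mul, map_mul, map_inv, map_mul, GamD_GamD, GamD_GamD, GamD_nC] at this
    exact this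

end DC

end Cfsg.Agent.Lib.Helper5.AutDO
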