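import Cfsg.Agent.Lib.Helper5.AutDO.BN3
import Cfsg.Agent.Lib.Helper5.AutBN.Core
import Mathlib

/-!
# `Ω⁺_{2κ+4}`: the longest element of the Weyl group (helper5)

The Weyl group `WD` of type `D` (generated by the permutations `rhoD i`) has index at most two in
the group of the permutations commuting with the reversal: every such permutation `π` satisfies
`π ∈ WD` or `π * tau ∈ WD`.  Hence the model contains a monomial element `n0`, a product of the
`nD i`, whose permutation is the reversal or the reversal times `tau`; both are "opposite"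
permutations (`IsOpp`): conjugation by a monomial element of the model with such a permutation
exchanges `UD` and `VD`.
-/

set_option autoImplicit false

namespace Cfsg.Agent.Lib.Helper5.AutDO

open Matrix Cfsg Cfsg.Agent.Lib.Helper5.GLBN Cfsg.Agent.Lib.Helper8.SpBN
open Cfsg.Agent.Lib.Helper8.Tw Cfsg.Agent.PSUT Cfsg.Agent.Lib.Helper5.AutSU
open Cfsg.Agent.Lib.Helper5.AutBN
open scoped MatrixGroups

variable {N : ℕ} {F : Type*} [Field F] [Fintype F]

namespace DC

variable (C : DC N)

/-- the middle reflection of type `B` is the swap of the two middle coordinates -/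
theorem rho_mid : rho N (C.κ + 1) = C.tau := by
  have hN := C.hN
  apply Equiv.ext
  intro x
  apply Fin.ext
  have hx := x.2
  rw [rho_val_mid (by omega), tau_val]
  split_ifs <;> omega

/-- the Weyl group of type `D` -/
def WD : Subgroup (Equiv.Perm (Fin N)) := Subgroup.closure (Set.range C.rhoD)

theorem rhoD_mem_WD (i : Fin (C.κ + 2)) : C.rhoD i ∈ C.WD := Subgroup.subset_closure ⟨i, rfl⟩

theorem tau_rho_tau {j : ℕ} (hj : j < C.κ) : C.tau * rho N j * C.tau = rho N j := by
  have hN := C.hN
  apply Equiv.ext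
  intro x
  apply Fin.ext
  have hx := x.2
  rw [Equiv.Perm.mul_apply, Equiv.Perm.mul_apply, tau_val, rho_val_short (by omega), tau_val,
    rho_val_short (by omega)]
  split_ifs <;> omega

theorem tau_rhoF_tau : C.tau * C.rhoF * C.tau = rho N C.κ := by
  unfold rhoF
  have h := C.tau_mul_self
  calc C.tau * (C.tau * rho N C.κ * C.tau) * C.tau
      = (C.tau * C.tau) * rho N C.κ * (C.tau * C.tau) := by group
    _ = rho N C.κ := by rw [h, one_mul, mul_one]

theorem tau_conj_rhoD (i : Fin (C.κ + 2)) : ∃ i', C.tau * C.rhoD i * C.tau = C.rhoD i' := by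
  have hi := i.2
  by_cases h : (i : ℕ) ≤ C.κ
  · rcases Nat.lt_or_ge (i : ℕ) C.κ with h1 | h1
    · refine ⟨i, ?_⟩
      rw [rhoD_le _ _ h]
      exact C.tau_rho_tau h1
    · refine ⟨⟨C.κ + 1, by omega⟩, ?_⟩
      rw [rhoD_le _ _ h, rhoD_fork _ _ (by simp)]
      have e : (i : ℕ) = C.κ := by omega
      rw [e]
      rfl
  · refine ⟨⟨C.κ, by omega⟩, ?_⟩
    rw [rhoD_fork _ _ h, rhoD_le _ _ (by simp)]
    exact C.tau_rhoF_tau

theorem tau_conj_WD {w : Equiv.Perm (Fin N)} (hw : w ∈ C.WD) : C.tau * w * C.tau ∈ C.WD := by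
  have h := C.tau_mul_self
  unfold WD at hw
  induction hw using Subgroup.closure_induction with
  | mem x hx =>
    obtain ⟨i, rfl⟩ := hx
    obtain ⟨i', e⟩ := C.tau_conj_rhoD i
    rw [e]
    exact C.rhoD_mem_WD i'
  | one =>
    rw [mul_one, h]
    exact one_mem _
  | mul x y _ _ hx hy =>
    have e : C.tau * (x * y) * C.tau = (C.tau * x * C.tau) * (C.tau * y * C.tau) := by
      calc C.tau * (x * y) * C.tau = C.tau * x * 1 * y * C.tau := by group
        _ = C.tau * x * (C.tau * C.tau) * y * C.tau := by rw [h]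
        _ = (C.tau * x * C.tau) * (C.tau * y * C.tau) := by group
    rw [e]
    exact mul_mem hx hy
  | inv x _ hx =>
    have e : C.tau * x⁻¹ * C.tau = (C.tau * x * C.tau)⁻¹ := by
      rw [_root_.mul_inv_rev, _root_.mul_inv_rev, C.tau_inv, mul_assoc]
    rw [e]
    exact inv_mem hx

/-- the Weyl group of type `D` has index at most two in the Weyl group of type `B` -/
theorem mem_WD_or {π : Equiv.Perm (Fin N)}
    (hπ : π ∈ Subgroup.closure (rho N '' Set.Iio (N / 2))) : π ∈ C.WD ∨ π * C.tau ∈ C.WD := by
  have hN := C.hN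
  have h := C.tau_mul_self
  induction hπ using Subgroup.closure_induction with
  | mem x hx =>
    obtain ⟨j, hj, rfl⟩ := hx
    rw [Set.mem_Iio] at hj
    rcases Nat.lt_or_ge j (C.κ + 1) with h1 | h1
    · left
      have e : rho N j = C.rhoD ⟨j, by omega⟩ := by
        rw [rhoD_le _ _ (by simp only; omega)]
      rw [e]
      exact C.rhoD_mem_WD _
    · right
      have e : j = C.κ + 1 := by omega
      rw [e, C.rho_mid, h]
      exact one_mem _
  | one => exact Or.inl (one_mem _)
  | mul x y _ _ hx hy =>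
    rcases hx with hx | hx <;> rcases hy with hy | hy
    · exact Or.inl (mul_mem hx hy)
    · right
      rw [mul_assoc]
      exact mul_mem hx hy
    · right
      have e : x * y * C.tau = (x * C.tau) * (C.tau * y * C.tau) := by
        calc x * y * C.tau = x * 1 * y * C.tau := by group
          _ = x * (C.tau * C.tau) * y * C.tau := by rw [h]
          _ = (x * C.tau) * (C.tau * y * C.tau) := by group
      rw [e]
      exact mul_mem hx (C.tau_conj_WD hy)
    · left
      have e : x * y = (x * C.tau) * (C.tau * (y * C.tau) * C.tau) := by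
        calc x * y = x * 1 * y * 1 := by group
          _ = x * (C.tau * C.tau) * y * (C.tau * C.tau) := by rw [h]
          _ = (x * C.tau) * (C.tau * (y * C.tau) * C.tau) := by group
      rw [e]
      exact mul_mem hx (C.tau_conj_WD hy)
  | inv x _ hx =>
    rcases hx with hx | hx
    · exact Or.inl (inv_mem hx)
    · right
      have e : x⁻¹ * C.tau = C.tau * (x * C.tau)⁻¹ * C.tau := by
        rw [_root_.mul_inv_rev, C.tau_inv]
        calc x⁻¹ * C.tau = (C.tau * C.tau) * x⁻¹ * C.tau := by rw [h, one_mul]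
          _ = C.tau * (C.tau * x⁻¹) * C.tau := by group
      rw [e]
      exact C.tau_conj_WD (inv_mem hx)

/-- every element of the Weyl group of type `D` is induced by a product of the `nD i` -/
theorem exists_lift {w : Equiv.Perm (Fin N)} (hw : w ∈ C.WD) :
    ∃ n ∈ Subgroup.closure (Set.range (C.nD (F := F))),
      IsMono ((C.gd n : GL (Fin N) F) : Matrix (Fin N) (Fin N) F) w := by
  unfold WD at hw
  induction hw using Subgroup.closure_induction with
  | mem x hx =>
    obtain ⟨i, rfl⟩ := hx
    exact ⟨C.nD i, Subgroup.subset_closure ⟨i, rfl⟩, C.isMono_nD i⟩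
  | one =>
    refine ⟨1, one_mem _, ?_⟩
    have e : C.gd (1 : C.Dm F) = 1 := gl_one
    rw [e]
    exact isMono_one
  | mul x y _ _ hx hy =>
    obtain ⟨n1, hn1, h1⟩ := hx
    obtain ⟨n2, hn2, h2⟩ := hy
    refine ⟨n1 * n2, mul_mem hn1 hn2, ?_⟩
    rw [gd_mul, Units.val_mul]
    exact h1.mul h2
  | inv x _ hx =>
    obtain ⟨n1, hn1, h1⟩ := hx
    refine ⟨n1⁻¹, inv_mem hn1, ?_⟩
    rw [gd_inv]
    exact h1.inv

/-- the model contains a monomial element whose permutation is the reversal, or the reversal
times the swap of the two middle coordinates -/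
theorem exists_longest :
    ∃ (n0 : C.Dm F) (π0 : Equiv.Perm (Fin N)),
      n0 ∈ Subgroup.closure (Set.range (C.nD (F := F))) ∧
      IsMono ((C.gd n0 : GL (Fin N) F) : Matrix (Fin N) (Fin N) F) π0 ∧
      (π0 = Fin.revPerm ∨ π0 = Fin.revPerm * C.tau) := by
  have h1 : (Fin.revPerm : Equiv.Perm (Fin N)) ∈ Subgroup.closure (rho N '' Set.Iio (N / 2)) := by
    apply mem_closure_rho
    intro b
    rfl
  rcases C.mem_WD_or h1 with h | h
  · obtain ⟨n, hn, hm⟩ := C.exists_lift (F := F) h
    exact ⟨n, _, hn, hm, Or.inl rfl⟩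
  · obtain ⟨n, hn, hm⟩ := C.exists_lift (F := F) h
    exact ⟨n, _, hn, hm, Or.inr rfl⟩

end DC

end Cfsg.Agent.Lib.Helper5.AutDO
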