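import Cfsg.Agent.Lib.Helper5.AutDO.Perfect
import Cfsg.Agent.Lib.Helper5.AutDO.Opp1
import Cfsg.Agent.Lib.Lead.AutPO.DOQ
import Cfsg.Agent.Lib.Lead.RootBN.OQIso
import Mathlib

/-!
# `Ω⁺_{2κ+4}`: bridges to lead's `G0D` and `OQ`, and an abstract commutator criterion (helper5)

* `commutator_le_of_gen` : if a group is generated by a subgroup `E` and a set `S` normalising `E`
  whose elements commute modulo `E`, then the commutator subgroup lies in `E`;
* `DC.GD_eq_G0D` : the model `GD` is lead's `G0D`;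
* `mem_OD_iff_OQ` : my `OD` is the part of lead's `OQ` in the special unitary group;
* `DC.conjU_diag_mem_GD` : diagonal elements of the unitary group normalise `GD`.
-/

set_option autoImplicit false

namespace Cfsg.Agent.Lib.Helper5.AutDO

open Matrix Cfsg Cfsg.Agent.Lib.Helper5.GLBN Cfsg.Agent.Lib.Helper8.SpBN
open Cfsg.Agent.Lib.Helper8.Tw Cfsg.Agent.PSUT Cfsg.Agent.Lib.Helper5.AutSU
open Cfsg.Agent.RootBN
open scoped MatrixGroups

/-- a group generated by a subgroup `E` and a set `S` normalising `E`, whose elements commute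
modulo `E`, has its commutator subgroup inside `E` -/
theorem commutator_le_of_gen {G : Type*} [Group G] (E : Subgroup G) (S : Set G)
    (hgen : Subgroup.closure ((E : Set G) ∪ S) = ⊤)
    (hnorm : ∀ s ∈ S, ∀ x ∈ E, s * x * s⁻¹ ∈ E ∧ s⁻¹ * x * s ∈ E)
    (hcomm : ∀ s ∈ S, ∀ s' ∈ S, s * s' * s⁻¹ * s'⁻¹ ∈ E) : commutator G ≤ E := by
  -- `E` is normal
  have hN : E.Normal := by
    rw [← Subgroup.normalizer_eq_top_iff, eq_top_iff, ← hgen, Subgroup.closure_le]
    rintro x (hx | hx)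
    · exact Subgroup.le_normalizer hx
    · rw [SetLike.mem_coe, Subgroup.mem_normalizer_iff]
      intro h
      constructor
      · intro hh
        exact (hnorm x hx h hh).1
      · intro hh
        have := (hnorm x hx _ hh).2
        have e : x⁻¹ * (x * h * x⁻¹) * x = h := by group
        rwa [e] at this
  -- the images of `S` are central in the quotient
  let φ : G →* G ⧸ E := QuotientGroup.mk' E
  have hφE : ∀ x ∈ E, φ x = 1 := fun x hx => (QuotientGroup.eq_one_iff x).2 hx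
  have hSS : ∀ s ∈ S, ∀ s' ∈ S, φ s * φ s' = φ s' * φ s := by
    intro s hs s' hs'
    have h1 : φ (s * s' * s⁻¹ * s'⁻¹) = 1 := hφE _ (hcomm s hs s' hs')
    rw [map_mul, map_mul, map_mul, map_inv, map_inv] at h1
    calc φ s * φ s' = (φ s * φ s' * (φ s)⁻¹ * (φ s')⁻¹) * (φ s' * φ s) := by group
      _ = φ s' * φ s := by rw [h1, one_mul]
  have hcen : ∀ s ∈ S, φ s ∈ Subgroup.center (G ⧸ E) := by
    intro s hs
    have hK : Subgroup.closure ((E : Set G) ∪ S)
        ≤ (Subgroup.centralizer {φ s}).comap φ := by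
      rw [Subgroup.closure_le]
      rintro x (hx | hx)
      · show φ x ∈ Subgroup.centralizer {φ s}
        rw [hφE x hx]
        exact one_mem _
      · show φ x ∈ Subgroup.centralizer {φ s}
        rw [Subgroup.mem_centralizer_iff]
        intro y hy
        rw [Set.mem_singleton_iff] at hy
        rw [hy]
        exact hSS s hs x hx
    rw [Subgroup.mem_center_iff]
    intro q
    obtain ⟨x, rfl⟩ := QuotientGroup.mk'_surjective E q
    have hx : x ∈ (Subgroup.centralizer {φ s}).comap φ := hK (by rw [hgen]; trivial)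
    have h2 : φ x ∈ Subgroup.centralizer {φ s} := hx
    rw [Subgroup.mem_centralizer_iff] at h2
    exact (h2 (φ s) rfl).symm
  have hall : ∀ x : G, φ x ∈ Subgroup.center (G ⧸ E) := by
    have hK : Subgroup.closure ((E : Set G) ∪ S) ≤ (Subgroup.center (G ⧸ E)).comap φ := by
      rw [Subgroup.closure_le]
      rintro x (hx | hx)
      · show φ x ∈ Subgroup.center (G ⧸ E)
        rw [hφE x hx]
        exact one_mem _
      · exact hcen x hx
    intro x
    exact hK (by rw [hgen]; trivial)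
  rw [commutator_def, Subgroup.commutator_le]
  intro a _ b _
  rw [← QuotientGroup.eq_one_iff, commutatorElement_def]
  show φ (a * b * a⁻¹ * b⁻¹) = 1
  rw [map_mul, map_mul, map_mul, map_inv, map_inv]
  have h1 := Subgroup.mem_center_iff.1 (hall a) (φ b)
  calc φ a * φ b * (φ a)⁻¹ * (φ b)⁻¹ = (φ b * φ a) * (φ a)⁻¹ * (φ b)⁻¹ := by rw [h1]
    _ = 1 := by group

variable {N : ℕ} {F : Type*} [Field F] [Fintype F]

/-- my `OD` is the part of lead's `OQ` in the special unitary group -/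
theorem mem_OD_iff_OQ (hE : Even N) {g : SUm N F (RingHom.id F)} :
    g ∈ OD N F ↔ gl g ∈ OQ N F hE := by
  rw [mem_OD, mem_OQ_iff_qv]
  rfl

namespace DC

variable (C : DC N)

theorem sO_mem_GD {j : ℕ} (hj : j ≤ C.κ) (x : Matrix.SpecialLinearGroup (Fin 2) F) :
    Cfsg.Agent.AutPO.sO j (C.hj_of_le hj) x ∈ C.GD (F := F) := by
  apply Cfsg.Agent.AutPSU.sl2_map_mem (Cfsg.Agent.AutPO.sO j (C.hj_of_le hj)) (C.GD (F := F))
  · intro t
    rw [← xpS_eq_sO]
    exact C.LL_le_GD hj (Xp_le_LL j (xpS_mem_Xp idinv j _ t))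
  · intro t
    rw [← xmS_eq_sO]
    exact C.LL_le_GD hj (Xm_le_LL j (xmS_mem_Xm idinv j _ t))

theorem fO_mem_GD (x : Matrix.SpecialLinearGroup (Fin 2) F) :
    Cfsg.Agent.AutPO.fO C.κ C.hN x ∈ C.GD (F := F) := by
  rw [← Cfsg.Agent.AutPO.conj_rfl_sO]
  exact C.Gam_mem_GD (C.sO_mem_GD le_rfl x)

/-- the model is lead's `G0D` -/
theorem GD_eq_G0D : C.GD (F := F) = Cfsg.Agent.AutPO.G0D C.κ C.hN := by
  have hN := C.hN
  apply le_antisymm
  · have hLL : ∀ j, j ≤ C.κ → LL N F (RingHom.id F) j ≤ Cfsg.Agent.AutPO.G0D C.κ C.hN := by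
      intro j hj
      unfold LL
      rw [Subgroup.closure_le]
      rintro x (hx | hx)
      · obtain ⟨t, rfl⟩ := (mem_Xp_short_iff idinv (C.hj_of_le hj)).1 hx
        rw [SetLike.mem_coe, xpS_eq_sO]
        exact Cfsg.Agent.AutPO.sO_mem_G0D C.κ C.hN j _ _
      · obtain ⟨t, rfl⟩ := (mem_Xm_short_iff idinv (C.hj_of_le hj)).1 hx
        rw [SetLike.mem_coe, xmS_eq_sO]
        exact Cfsg.Agent.AutPO.sO_mem_G0D C.κ C.hN j _ _
    show ((⨆ j : Fin (C.κ + 1), LL N F (RingHom.id F) (j : ℕ))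
      ⊔ (LL N F (RingHom.id F) C.κ).map (C.Gam (F := F)).toMonoidHom) ≤ _
    apply sup_le
    · apply iSup_le
      intro j
      exact hLL j (by have := j.2; omega)
    · rintro _ ⟨y, hy, rfl⟩
      exact Cfsg.Agent.AutPO.rfl_mem_G0D C.κ C.hN y (hLL C.κ le_rfl hy)
  · apply Cfsg.Agent.AutPO.G0D_le
    · intro j hj t
      have hj' : j ≤ C.κ := by omega
      exact ⟨C.sO_mem_GD hj' _, C.sO_mem_GD hj' _⟩
    · intro t
      exact ⟨C.fO_mem_GD _, C.fO_mem_GD _⟩

/-- the elements of the model are orthogonal -/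
theorem gl_mem_OQ (hE : Even N) {g : SUm N F (RingHom.id F)} (hg : g ∈ C.GD (F := F)) :
    gl g ∈ OQ N F hE :=
  (mem_OD_iff_OQ hE).1 (C.GD_le_OD hg)

/-- conjugation by a diagonal unitary element preserves the shapes -/
theorem conjU_diag_sh {w : ↥(UH N F (RingHom.id F))}
    (hw : IsMono ((w : GL (Fin N) F) : Matrix (Fin N) (Fin N) F) 1)
    {P : Fin N → Fin N → Prop} {g : SUm N F (RingHom.id F)}
    (hg : g ∈ Sh N F (RingHom.id F) P) :
    Cfsg.Agent.AutPSU.conjU w g ∈ Sh N F (RingHom.id F) P := by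
  have hw' : IsMono (((w : GL (Fin N) F)⁻¹ : GL (Fin N) F) : Matrix (Fin N) (Fin N) F) 1 := by
    have := hw.inv
    rwa [inv_one] at this
  have e : gl (Cfsg.Agent.AutPSU.conjU w g)
      = ((w : GL (Fin N) F)⁻¹)⁻¹ * gl g * (w : GL (Fin N) F)⁻¹ := by
    rw [inv_inv]
    exact Cfsg.Agent.AutPSU.gl_conjU w g
  constructor
  · intro a
    rw [e, mono_conj_apply hw', Equiv.Perm.one_apply, hg.1, mul_one]
    exact IsMono_inv_apply hw' a
  · intro a b hab hP
    rw [e, mono_conj_apply hw', Equiv.Perm.one_apply, Equiv.Perm.one_apply, hg.2 a b hab hP,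
      mul_zero, zero_mul]

/-- diagonal unitary elements normalise the model -/
theorem conjU_diag_mem_GD {w : ↥(UH N F (RingHom.id F))}
    (hw : IsMono ((w : GL (Fin N) F) : Matrix (Fin N) (Fin N) F) 1)
    {g : SUm N F (RingHom.id F)} (hg : g ∈ C.GD (F := F)) :
    Cfsg.Agent.AutPSU.conjU w g ∈ C.GD (F := F) := by
  have hN := C.hN
  have hXp : ∀ j, j ≤ C.κ → ∀ x ∈ Xp N F (RingHom.id F) j,
      Cfsg.Agent.AutPSU.conjU w x ∈ Xp N F (RingHom.id F) j := by
    intro j hj x hx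
    have hx' : x ∈ (Xp N F (RingHom.id F) j : Set (SUm N F (RingHom.id F))) := hx
    rw [Xp_eq_Sh (by omega)] at hx'
    have := DC.conjU_diag_sh hw hx'
    rw [← Xp_eq_Sh (by omega)] at this
    exact this
  have hXm : ∀ j, j ≤ C.κ → ∀ x ∈ Xm N F (RingHom.id F) j,
      Cfsg.Agent.AutPSU.conjU w x ∈ Xm N F (RingHom.id F) j := by
    intro j hj x hx
    have hx' : x ∈ (Xm N F (RingHom.id F) j : Set (SUm N F (RingHom.id F))) := hx
    rw [Xm_eq_Sh (by omega)] at hx'
    have := DC.conjU_diag_sh hw hx'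
    rw [← Xm_eq_Sh (by omega)] at this
    exact this
  have hLL : ∀ j, j ≤ C.κ → LL N F (RingHom.id F) j
      ≤ (C.GD (F := F)).comap (Cfsg.Agent.AutPSU.conjU w).toMonoidHom := by
    intro j hj
    unfold LL
    rw [Subgroup.closure_le]
    rintro x (hx | hx)
    · exact C.LL_le_GD hj (Xp_le_LL j (hXp j hj x hx))
    · exact C.LL_le_GD hj (Xm_le_LL j (hXm j hj x hx))
  -- the fork node
  have hfork : LL N F (RingHom.id F) C.κ
      ≤ ((C.GD (F := F)).comap (Cfsg.Agent.AutPSU.conjU w).toMonoidHom).comap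
        (C.Gam (F := F)).toMonoidHom := by
    unfold LL
    rw [Subgroup.closure_le]
    rintro x (hx | hx)
    · show Cfsg.Agent.AutPSU.conjU w (C.Gam x) ∈ C.GD (F := F)
      have hx' : x ∈ (Xp N F (RingHom.id F) C.κ : Set (SUm N F (RingHom.id F))) := hx
      rw [Xp_eq_Sh (by omega)] at hx'
      have h1 := DC.conjU_diag_sh hw (C.Gam_sh hx')
      have h2 := C.Gam_sh h1
      have h3 : C.Gam (Cfsg.Agent.AutPSU.conjU w (C.Gam x))
          ∈ (Xp N F (RingHom.id F) C.κ : Set (SUm N F (RingHom.id F))) := by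
        rw [Xp_eq_Sh (by omega)]
        refine sh_mono ?_ h2
        intro a b hp
        rwa [C.tau_tau, C.tau_tau] at hp
      have h4 := C.fork_le_GD (F := F) ⟨_, Xp_le_LL C.κ h3, rfl⟩
      rw [MulEquiv.coe_toMonoidHom, C.Gam_Gam] at h4
      exact h4
    · show Cfsg.Agent.AutPSU.conjU w (C.Gam x) ∈ C.GD (F := F)
      have hx' : x ∈ (Xm N F (RingHom.id F) C.κ : Set (SUm N F (RingHom.id F))) := hx
      rw [Xm_eq_Sh (by omega)] at hx'
      have h1 := DC.conjU_diag_sh hw (C.Gam_sh hx')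
      have h2 := C.Gam_sh h1
      have h3 : C.Gam (Cfsg.Agent.AutPSU.conjU w (C.Gam x))
          ∈ (Xm N F (RingHom.id F) C.κ : Set (SUm N F (RingHom.id F))) := by
        rw [Xm_eq_Sh (by omega)]
        refine sh_mono ?_ h2
        intro a b hp
        rwa [C.tau_tau, C.tau_tau] at hp
      have h4 := C.fork_le_GD (F := F) ⟨_, Xm_le_LL C.κ h3, rfl⟩
      rw [MulEquiv.coe_toMonoidHom, C.Gam_Gam] at h4
      exact h4
  have key : C.GD (F := F) ≤ (C.GD (F := F)).comap (Cfsg.Agent.AutPSU.conjU w).toMonoidHom := by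
    show ((⨆ j : Fin (C.κ + 1), LL N F (RingHom.id F) (j : ℕ))
      ⊔ (LL N F (RingHom.id F) C.κ).map (C.Gam (F := F)).toMonoidHom) ≤ _
    apply sup_le
    · apply iSup_le
      intro j
      exact hLL j (by have := j.2; omega)
    · rintro _ ⟨y, hy, rfl⟩
      exact hfork hy
  exact key hg

end DC

end Cfsg.Agent.Lib.Helper5.AutDO
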