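import Cfsg.Agent.Lib.Helper5.AutDO.Comm1
import Mathlib

/-!
# `Ω⁺_{2κ+4}`: the model is the commutator subgroup of the orthogonal group (helper5)

`OQ N F hE` (lead) is the full orthogonal group `O⁺_N(F)` (every characteristic).  It is generated
by the image `GDm` of the model, the diagonal elements with entry `1` at the middle coordinates and
the reflection swapping the two middle coordinates; these normalise `GDm` and commute with each
other, so `commutator (OQ) ≤ GDm`; with the perfectness of the model: `commutator_OQ_eq`.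
-/

set_option autoImplicit false

namespace Cfsg.Agent.Lib.Helper5.AutDO

open Matrix Cfsg Cfsg.Agent.Lib.Helper5.GLBN Cfsg.Agent.Lib.Helper8.SpBN
open Cfsg.Agent.Lib.Helper8.Tw Cfsg.Agent.PSUT Cfsg.Agent.Lib.Helper5.AutSU
open Cfsg.Agent.RootBN
open scoped MatrixGroups

variable {N : ℕ} {F : Type*} [Field F] [Fintype F]

/-- a monomial matrix with the trivial permutation is diagonal -/
theorem mono_one_eq_diagonal {M : Matrix (Fin N) (Fin N) F} (h : IsMono M 1) :
    M = Matrix.diagonal (fun i => M i i) := by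
  ext i j
  by_cases hij : i = j
  · rw [hij, Matrix.diagonal_apply_eq]
  · rw [Matrix.diagonal_apply_ne _ hij]
    exact h i j (by rw [Equiv.Perm.one_apply]; exact hij)

theorem mono_one_commute {a b : GL (Fin N) F}
    (ha : IsMono (a : Matrix (Fin N) (Fin N) F) 1) (hb : IsMono (b : Matrix (Fin N) (Fin N) F) 1) :
    a * b = b * a := by
  apply Units.ext
  rw [Units.val_mul, Units.val_mul]
  have h1 := mono_one_eq_diagonal ha
  have h2 := mono_one_eq_diagonal hb
  generalize (a : Matrix (Fin N) (Fin N) F) = A at *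
  generalize (b : Matrix (Fin N) (Fin N) F) = B at *
  rw [h1, h2, Matrix.diagonal_mul_diagonal, Matrix.diagonal_mul_diagonal]
  congr 1
  ext i
  exact mul_comm _ _

namespace DC

variable (C : DC N) (hE : Even N)

/-- the image of the model in `GL_N(F)` -/
noncomputable def GDm : Subgroup (GL (Fin N) F) :=
  (C.GD (F := F)).map (glHom N F (RingHom.id F))

theorem mem_GDm {x : GL (Fin N) F} : x ∈ C.GDm ↔ ∃ g ∈ C.GD (F := F), gl g = x := Iff.rfl

theorem GDm_le_OQ : C.GDm (F := F) ≤ OQ N F hE := by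
  rintro _ ⟨g, hg, rfl⟩
  exact C.gl_mem_OQ hE hg

/-- the unitriangular orthogonal matrices lie in the model -/
theorem uni_mem_GDm {u : GL (Fin N) F} (hu : u ∈ OQ N F hE)
    (hU : IsUni (u : Matrix (Fin N) (Fin N) F)) : u ∈ C.GDm (F := F) := by
  obtain ⟨h1, h2⟩ := isUni_iff.1 hU
  have hUp : IsUpU (u : Matrix (Fin N) (Fin N) F) := ⟨h2, h1⟩
  refine ⟨mk1 u hu.1 (det_of_isUpU hUp), ?_, rfl⟩
  apply C.UD_le_GD
  exact ⟨hUp, (mem_OD_iff_OQ hE).2 hu⟩

/-- the model inside the orthogonal group -/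
noncomputable def EO : Subgroup ↥(OQ N F hE) := (C.GDm (F := F)).subgroupOf (OQ N F hE)

theorem mem_EO {x : ↥(OQ N F hE)} :
    x ∈ C.EO hE ↔ ∃ g ∈ C.GD (F := F), gl g = (x : GL (Fin N) F) := Iff.rfl

/-- the reflection swapping the two middle coordinates, in the orthogonal group -/
noncomputable def rO : ↥(OQ N F hE) :=
  ⟨permGL C.tau, mem_OQ.2 ⟨(Cfsg.Agent.AutPO.rflU (F := F) C.κ C.hN).2,
    fun k => qc_mono hE (isMono_permGL C.tau) k⟩⟩

theorem rO_coe : ((C.rO hE : ↥(OQ N F hE)) : GL (Fin N) F) = permGL C.tau := rfl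

theorem rO_inv : (C.rO (F := F) hE)⁻¹ = C.rO hE := by
  apply Subtype.ext
  show (permGL C.tau : GL (Fin N) F)⁻¹ = permGL C.tau
  rw [← map_inv, C.tau_inv]

/-- the generators outside the model: the diagonal elements with entry `1` at the middle
coordinates, and the reflection -/
def SO : Set ↥(OQ N F hE) :=
  {s | IsMono ((s : GL (Fin N) F) : Matrix (Fin N) (Fin N) F) 1 ∧
    ((s : GL (Fin N) F) : Matrix (Fin N) (Fin N) F) C.p1 C.p1 = 1} ∪ {C.rO hE}

theorem diag_rO_commute {s : ↥(OQ N F hE)}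
    (hs : IsMono ((s : GL (Fin N) F) : Matrix (Fin N) (Fin N) F) 1)
    (h1 : ((s : GL (Fin N) F) : Matrix (Fin N) (Fin N) F) C.p1 C.p1 = 1) :
    s * C.rO hE = C.rO hE * s := by
  have hup : (s : GL (Fin N) F) ∈ upperTriangularGL N F := by
    rw [mem_upper]
    intro a b hba
    exact hs a b (by rw [Equiv.Perm.one_apply]; exact ne_of_gt hba)
  have h2 : ((s : GL (Fin N) F) : Matrix (Fin N) (Fin N) F) C.p1.rev C.p1.rev = 1 := by
    have := upper_diag_unitary hup s.2.1 C.p1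
    rwa [h1, one_mul] at this
  have hd : ∀ j, ((s : GL (Fin N) F) : Matrix (Fin N) (Fin N) F) (C.tau j) (C.tau j)
      = ((s : GL (Fin N) F) : Matrix (Fin N) (Fin N) F) j j := by
    intro j
    unfold tau
    by_cases e1 : j = C.p1
    · rw [e1, Equiv.swap_apply_left, h1, h2]
    · by_cases e2 : j = C.p1.rev
      · rw [e2, Equiv.swap_apply_right, h1, h2]
      · rw [Equiv.swap_apply_of_ne_of_ne e1 e2]
  apply Subtype.ext
  apply Units.ext
  ext i j
  show (((s : GL (Fin N) F) : Matrix (Fin N) (Fin N) F) * (pm C.tau : Matrix (Fin N) (Fin N) F)) i j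
    = ((pm C.tau : Matrix (Fin N) (Fin N) F) * ((s : GL (Fin N) F) : Matrix (Fin N) (Fin N) F)) i j
  rw [mul_pm_apply, pm_mul_apply, C.tau_inv]
  by_cases h : i = C.tau j
  · rw [h, C.tau_tau, hd]
  · rw [hs i (C.tau j) (by rw [Equiv.Perm.one_apply]; exact h),
      hs (C.tau i) j (by
        rw [Equiv.Perm.one_apply]
        intro e
        apply h
        rw [← e, C.tau_tau])]

theorem SO_commute {s s' : ↥(OQ N F hE)} (hs : s ∈ C.SO hE) (hs' : s' ∈ C.SO hE) :
    s * s' = s' * s := by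
  rcases hs with ⟨h1, h2⟩ | hs <;> rcases hs' with ⟨h1', h2'⟩ | hs'
  · exact Subtype.ext (mono_one_commute h1 h1')
  · rw [Set.mem_singleton_iff] at hs'
    rw [hs']
    exact C.diag_rO_commute hE h1 h2
  · rw [Set.mem_singleton_iff] at hs
    rw [hs]
    exact (C.diag_rO_commute hE h1' h2').symm
  · rw [Set.mem_singleton_iff] at hs hs'
    rw [hs, hs']

/-- the generators normalise the model -/
theorem SO_normalizes {s : ↥(OQ N F hE)} (hs : s ∈ C.SO hE) {x : ↥(OQ N F hE)}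
    (hx : x ∈ C.EO hE) : s * x * s⁻¹ ∈ C.EO hE ∧ s⁻¹ * x * s ∈ C.EO hE := by
  obtain ⟨g, hg, hgx⟩ := (C.mem_EO hE).1 hx
  rcases hs with ⟨h1, -⟩ | hs
  · constructor
    · refine (C.mem_EO hE).2 ⟨Cfsg.Agent.AutPSU.conjU ⟨(s : GL (Fin N) F), s.2.1⟩ g,
        C.conjU_diag_mem_GD h1 hg, ?_⟩
      have e := Cfsg.Agent.AutPSU.gl_conjU (⟨(s : GL (Fin N) F), s.2.1⟩ : ↥(UH N F (RingHom.id F))) g
      show gl _ = (s : GL (Fin N) F) * (x : GL (Fin N) F) * (s : GL (Fin N) F)⁻¹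
      rw [← hgx]
      exact e
    · have h1' : IsMono (((s : GL (Fin N) F)⁻¹ : GL (Fin N) F) : Matrix (Fin N) (Fin N) F) 1 := by
        have := h1.inv
        rwa [inv_one] at this
      have hsU : (s : GL (Fin N) F)⁻¹ ∈ UH N F (RingHom.id F) := inv_mem s.2.1
      refine (C.mem_EO hE).2 ⟨Cfsg.Agent.AutPSU.conjU ⟨(s : GL (Fin N) F)⁻¹, hsU⟩ g,
        C.conjU_diag_mem_GD h1' hg, ?_⟩
      have e := Cfsg.Agent.AutPSU.gl_conjU (⟨(s : GL (Fin N) F)⁻¹, hsU⟩ : ↥(UH N F (RingHom.id F))) g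
      show gl _ = (s : GL (Fin N) F)⁻¹ * (x : GL (Fin N) F) * (s : GL (Fin N) F)
      rw [← hgx]
      rw [inv_inv] at e
      exact e
  · rw [Set.mem_singleton_iff] at hs
    have key : C.rO hE * x * (C.rO hE)⁻¹ ∈ C.EO hE := by
      refine (C.mem_EO hE).2 ⟨C.Gam g, C.Gam_mem_GD hg, ?_⟩
      show gl (C.Gam g) = permGL C.tau * (x : GL (Fin N) F) * (permGL C.tau)⁻¹
      rw [C.gl_Gam, hgx]
    rw [hs]
    refine ⟨key, ?_⟩
    have e : (C.rO hE)⁻¹ * x * C.rO hE = C.rO hE * x * (C.rO hE)⁻¹ := by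
      rw [C.rO_inv hE]
    rw [e]
    exact key

/-- a diagonal orthogonal matrix lies in the subgroup generated by the model and `SO` -/
theorem diag_mem_closure {t : ↥(OQ N F hE)}
    (ht : IsMono ((t : GL (Fin N) F) : Matrix (Fin N) (Fin N) F) 1) :
    t ∈ Subgroup.closure (((C.EO hE : Subgroup ↥(OQ N F hE)) : Set ↥(OQ N F hE)) ∪ C.SO hE) := by
  have hN := C.hN
  have ha : ((t : GL (Fin N) F) : Matrix (Fin N) (Fin N) F) C.p1 C.p1 ≠ 0 := by
    have := ht.apply_ne_zero C.p1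
    rwa [Equiv.Perm.one_apply] at this
  have ha' : (((t : GL (Fin N) F) : Matrix (Fin N) (Fin N) F) C.p1 C.p1)⁻¹ ≠ 0 := inv_ne_zero ha
  have hh : hS C.κ (C.hj_of_le le_rfl)
      (((t : GL (Fin N) F) : Matrix (Fin N) (Fin N) F) C.p1 C.p1)⁻¹ ha' ∈ C.GD (F := F) :=
    C.sO_mem_GD le_rfl _
  have hmono := isMono_of_mem_TT (hS_mem_TT C.κ (C.hj_of_le le_rfl)
      (((t : GL (Fin N) F) : Matrix (Fin N) (Fin N) F) C.p1 C.p1)⁻¹ ha')
  have hentry : ((gl (hS C.κ (C.hj_of_le le_rfl)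
      (((t : GL (Fin N) F) : Matrix (Fin N) (Fin N) F) C.p1 C.p1)⁻¹ ha') : GL (Fin N) F)⁻¹
        : GL (Fin N) F).val C.p1 C.p1
      = (((t : GL (Fin N) F) : Matrix (Fin N) (Fin N) F) C.p1 C.p1)⁻¹ := by
    unfold hS
    rw [gl_sO', Cfsg.Agent.AutPSU.shortGL_dgT, Cfsg.Agent.Lib.Helper8.AutSp.dgU_inv,
      Cfsg.Agent.Lib.Helper8.AutSp.dgU_coe, Matrix.diagonal_apply_eq, Units.val_inv_eq_inv_val]
    have := Cfsg.Agent.AutPSU.shortD_i₁ (RingHom.id F)
      (Cfsg.Agent.AutPSU.quad (N := N) C.κ (C.hj_of_le le_rfl))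
      (((t : GL (Fin N) F) : Matrix (Fin N) (Fin N) F) C.p1 C.p1)⁻¹ ha'
    rw [inv_inv] at this
    show ((Cfsg.Agent.AutPSU.shortD (RingHom.id F)
      (Cfsg.Agent.AutPSU.quad (N := N) C.κ (C.hj_of_le le_rfl))
      (((t : GL (Fin N) F) : Matrix (Fin N) (Fin N) F) C.p1 C.p1)⁻¹ ha'
      (Cfsg.Agent.AutPSU.ix N (C.κ + 1) (by omega)) : Fˣ) : F)⁻¹ = _
    rw [this]
  let eH : ↥(OQ N F hE) := ⟨gl (hS C.κ (C.hj_of_le le_rfl)
      (((t : GL (Fin N) F) : Matrix (Fin N) (Fin N) F) C.p1 C.p1)⁻¹ ha'), C.gl_mem_OQ hE hh⟩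
  have heH : eH ∈ C.EO hE := (C.mem_EO hE).2 ⟨_, hh, rfl⟩
  have hs : t * eH⁻¹ ∈ C.SO hE := by
    left
    constructor
    · have h1 := ht.mul hmono.inv
      have e : (1 : Equiv.Perm (Fin N)) * 1⁻¹ = 1 := by simp
      rw [e] at h1
      exact h1
    · show (((t : GL (Fin N) F) * (gl (hS C.κ (C.hj_of_le le_rfl)
        (((t : GL (Fin N) F) : Matrix (Fin N) (Fin N) F) C.p1 C.p1)⁻¹ ha'))⁻¹ : GL (Fin N) F)
          : Matrix (Fin N) (Fin N) F) C.p1 C.p1 = 1
      rw [Units.val_mul, hmono.inv.mul_apply, inv_one, Equiv.Perm.one_apply, hentry,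
        mul_inv_cancel₀ ha]
  have e : t = (t * eH⁻¹) * eH := by group
  rw [e]
  exact mul_mem (Subgroup.subset_closure (Or.inr hs)) (Subgroup.subset_closure (Or.inl heH))

/-- a monomial orthogonal matrix lies in the subgroup generated by the model and `SO` -/
theorem mono_mem_closure {ν : ↥(OQ N F hE)} {π : Equiv.Perm (Fin N)}
    (hν : IsMono ((ν : GL (Fin N) F) : Matrix (Fin N) (Fin N) F) π) :
    ν ∈ Subgroup.closure (((C.EO hE : Subgroup ↥(OQ N F hE)) : Set ↥(OQ N F hE)) ∪ C.SO hE) := by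
  have hrev := (revC_eq_self_iff π).1 (revC_of_mem_UH ν.2.1 hν)
  have hcl := mem_closure_rho π hrev
  rcases C.mem_WD_or hcl with h | h
  · obtain ⟨n, -, hn⟩ := C.exists_lift (F := F) h
    let eN : ↥(OQ N F hE) := ⟨C.gd n, C.gl_mem_OQ hE n.2⟩
    have heN : eN ∈ C.EO hE := (C.mem_EO hE).2 ⟨n.1, n.2, rfl⟩
    have ht : IsMono (((ν * eN⁻¹ : ↥(OQ N F hE)) : GL (Fin N) F) : Matrix (Fin N) (Fin N) F) 1 := by
      have h1 := hν.mul hn.inv
      rw [mul_inv_cancel] at h1
      exact h1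
    have e : ν = (ν * eN⁻¹) * eN := by group
    rw [e]
    exact mul_mem (C.diag_mem_closure hE ht) (Subgroup.subset_closure (Or.inl heN))
  · obtain ⟨n, -, hn⟩ := C.exists_lift (F := F) h
    let eN : ↥(OQ N F hE) := ⟨C.gd n, C.gl_mem_OQ hE n.2⟩
    have heN : eN ∈ C.EO hE := (C.mem_EO hE).2 ⟨n.1, n.2, rfl⟩
    have ht : IsMono (((ν * C.rO hE * eN⁻¹ : ↥(OQ N F hE)) : GL (Fin N) F)
        : Matrix (Fin N) (Fin N) F) 1 := by
      have h1 := (hν.mul (isMono_permGL (F := F) C.tau)).mul hn.inv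
      rw [mul_inv_cancel] at h1
      exact h1
    have e : ν = (ν * C.rO hE * eN⁻¹) * eN * (C.rO hE)⁻¹ := by group
    rw [e]
    exact mul_mem (mul_mem (C.diag_mem_closure hE ht) (Subgroup.subset_closure (Or.inl heN)))
      (inv_mem (Subgroup.subset_closure (Or.inr (Or.inr rfl))))

/-- the orthogonal group is generated by the model and `SO` -/
theorem closure_eq_top :
    Subgroup.closure (((C.EO hE : Subgroup ↥(OQ N F hE)) : Set ↥(OQ N F hE)) ∪ C.SO hE) = ⊤ := by
  rw [eq_top_iff]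
  intro g _
  obtain ⟨u, ν, w, π, hu, hν, hw, e, hu', hν', hw'⟩ := OQ.sharp hE g.2
  have e' : g = (⟨u, hu'⟩ : ↥(OQ N F hE)) * ⟨ν, hν'⟩ * ⟨w, hw'⟩ := Subtype.ext e
  rw [e']
  refine mul_mem (mul_mem ?_ ?_) ?_
  · exact Subgroup.subset_closure (Or.inl (C.uni_mem_GDm hE hu' hu))
  · exact C.mono_mem_closure hE (ν := ⟨ν, hν'⟩) hν
  · exact Subgroup.subset_closure (Or.inl (C.uni_mem_GDm hE hw' hw.isUni))

/-- the commutator subgroup of the orthogonal group lies in the model -/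
theorem commutator_OQ_le : commutator ↥(OQ N F hE) ≤ C.EO hE := by
  apply commutator_le_of_gen (C.EO hE) (C.SO hE) (C.closure_eq_top hE)
  · intro s hs x hx
    exact C.SO_normalizes hE hs hx
  · intro s hs s' hs'
    have h := C.SO_commute hE hs hs'
    have e : s * s' * s⁻¹ * s'⁻¹ = 1 := by
      rw [h]
      group
    rw [e]
    exact one_mem _

/-- the model, as a subgroup of the orthogonal group -/
noncomputable def toO : C.Dm F →* ↥(OQ N F hE) where
  toFun g := ⟨C.gd g, C.gl_mem_OQ hE g.2⟩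
  map_one' := Subtype.ext gl_one
  map_mul' a b := Subtype.ext (gl_mul _ _)

theorem toO_coe (g : C.Dm F) : ((C.toO hE g : ↥(OQ N F hE)) : GL (Fin N) F) = C.gd g := rfl

theorem toO_injective : Function.Injective (C.toO (F := F) hE) := by
  intro a b h
  have h1 : C.gd a = C.gd b := congrArg (fun x : ↥(OQ N F hE) => (x : GL (Fin N) F)) h
  exact Subtype.ext (gl_injective h1)

theorem range_toO : (C.toO (F := F) hE).range = C.EO hE := by
  ext x
  constructor
  · rintro ⟨g, rfl⟩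
    exact (C.mem_EO hE).2 ⟨g.1, g.2, rfl⟩
  · intro hx
    obtain ⟨g, hg, e⟩ := (C.mem_EO hE).1 hx
    exact ⟨⟨g, hg⟩, Subtype.ext e⟩

/-- **the model is the commutator subgroup of the orthogonal group** (rank at least three) -/
theorem commutator_OQ_eq (hκ : 1 ≤ C.κ) : commutator ↥(OQ N F hE) = C.EO hE := by
  apply le_antisymm (C.commutator_OQ_le hE)
  rw [← C.range_toO hE, MonoidHom.range_eq_map, ← C.perfect hκ, commutator_def, commutator_def,
    Subgroup.map_commutator]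
  exact Subgroup.commutator_mono le_top le_top

/-- the same, as subgroups of `GL_N(F)` -/
theorem commutator_OQ_map (hκ : 1 ≤ C.κ) :
    (commutator ↥(OQ N F hE)).map (OQ N F hE).subtype = C.GDm (F := F) := by
  rw [C.commutator_OQ_eq hE hκ]
  unfold EO
  rw [Subgroup.subgroupOf_map_subtype, inf_eq_left]
  exact C.GDm_le_OQ hE

/-- the identification of the model with the commutator subgroup of the orthogonal group -/
noncomputable def eOm (hκ : 1 ≤ C.κ) : C.Dm F ≃* ↥(commutator ↥(OQ N F hE)) :=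
  MulEquiv.ofBijective
    ((C.toO hE).codRestrict (commutator ↥(OQ N F hE)) (fun g => by
      rw [C.commutator_OQ_eq hE hκ, ← C.range_toO hE]
      exact ⟨g, rfl⟩))
    ⟨fun a b h => C.toO_injective hE (congrArg Subtype.val h), fun y => by
      have hy : (y : ↥(OQ N F hE)) ∈ (C.toO (F := F) hE).range := by
        rw [C.range_toO hE, ← C.commutator_OQ_eq hE hκ]
        exact y.2
      obtain ⟨g, hg⟩ := hy
      exact ⟨g, Subtype.ext hg⟩⟩

theorem eOm_coe (hκ : 1 ≤ C.κ) (g : C.Dm F) :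
    (((C.eOm hE hκ g : ↥(commutator ↥(OQ N F hE))) : ↥(OQ N F hE)) : GL (Fin N) F) = C.gd g := rfl

end DC

end Cfsg.Agent.Lib.Helper5.AutDO
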