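import Cfsg.Agent.Lib.Helper5.AutDO.Quad
import Cfsg.Agent.Lib.Lead.AutPO.DRefl
import Mathlib

/-!
# The model of `Ω⁺_{2κ+4}(F)` generated by root subgroups (helper5)

`N = 2 κ + 4`.  The chain nodes `j ≤ κ` (coordinates `j, j + 1`) have the root subgroups
`Xp N F id j`, `Xm N F id j` of the special orthogonal group; the fork node is the image of the node
`κ` under the graph automorphism `Gam` (conjugation by the reflection swapping the two middle
coordinates).  `GD` is the subgroup generated by all of them: it preserves the quadratic form and is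
invariant under `Gam`.
-/

set_option autoImplicit false

namespace Cfsg.Agent.Lib.Helper5.AutDO

open Matrix Cfsg Cfsg.Agent.Lib.Helper5.GLBN Cfsg.Agent.Lib.Helper8.SpBN
open Cfsg.Agent.Lib.Helper8.Tw Cfsg.Agent.PSUT Cfsg.Agent.Lib.Helper5.AutSU
open scoped MatrixGroups

variable {N : ℕ} {F : Type*} [Field F]

theorem idinv : ∀ x : F, (RingHom.id F) ((RingHom.id F) x) = x := fun _ => rfl

/-- the dimension is `N = 2 κ + 4` -/
structure DC (N : ℕ) where
  /-- the rank is `κ + 2` -/
  κ : ℕ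
  hN : N = 2 * κ + 4

namespace DC

variable (C : DC N)

/-- the coordinate `κ + 1`, the first of the two middle ones -/
def p1 : Fin N := ⟨C.κ + 1, by have := C.hN; omega⟩

theorem p1_val : (C.p1 : ℕ) = C.κ + 1 := rfl

theorem p1_rev_val : ((C.p1.rev : Fin N) : ℕ) = C.κ + 2 := by
  rw [Fin.val_rev, p1_val]
  have := C.hN
  omega

theorem p1_ne : C.p1 ≠ C.p1.rev := fin_ne (by rw [p1_val, p1_rev_val]; omega)

/-- the swap of the two middle coordinates -/
def tau : Equiv.Perm (Fin N) := Equiv.swap C.p1 C.p1.rev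

theorem tau_tau (x : Fin N) : C.tau (C.tau x) = x := Equiv.swap_apply_self _ _ _

theorem tau_inv : C.tau⁻¹ = C.tau := Equiv.swap_inv _ _

theorem tau_mul_self : C.tau * C.tau = 1 := Equiv.swap_mul_self _ _

theorem tau_rev (x : Fin N) : C.tau x.rev = (C.tau x).rev :=
  (revC_eq_self_iff _).1 (Cfsg.Agent.AutPO.revC_swap_rev C.p1) x

theorem tau_val (x : Fin N) : ((C.tau x : Fin N) : ℕ) =
    if (x : ℕ) = C.κ + 1 then C.κ + 2 else if (x : ℕ) = C.κ + 2 then C.κ + 1 else x := by
  unfold tau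
  rw [Equiv.swap_apply_def]
  have h1 := C.p1_val
  have h2 := C.p1_rev_val
  split_ifs <;> simp only [Fin.ext_iff] at * <;> omega

theorem tau_fix (x : Fin N) (h1 : (x : ℕ) ≠ C.κ + 1) (h2 : (x : ℕ) ≠ C.κ + 2) : C.tau x = x := by
  apply Fin.ext
  rw [tau_val, if_neg h1, if_neg h2]

/-- the graph automorphism: conjugation by the reflection swapping the two middle coordinates -/
noncomputable def Gam : SUm N F (RingHom.id F) ≃* SUm N F (RingHom.id F) :=
  Cfsg.Agent.AutPSU.conjU (Cfsg.Agent.AutPO.rflU C.κ C.hN)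

theorem gl_Gam (g : SUm N F (RingHom.id F)) :
    gl (C.Gam g) = permGL C.tau * gl g * (permGL C.tau)⁻¹ :=
  Cfsg.Agent.AutPSU.gl_conjU (Cfsg.Agent.AutPO.rflU C.κ C.hN) g

theorem Gam_apply (g : SUm N F (RingHom.id F)) (a b : Fin N) :
    ((gl (C.Gam g) : GL (Fin N) F) : Matrix (Fin N) (Fin N) F) a b
      = ((gl g : GL (Fin N) F) : Matrix (Fin N) (Fin N) F) (C.tau a) (C.tau b) := by
  rw [gl_Gam, ← map_inv, C.tau_inv, Units.val_mul, Units.val_mul, permGL_coe, Matrix.mul_assoc,
    pm_mul_apply, mul_pm_apply, C.tau_inv]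

theorem Gam_Gam (g : SUm N F (RingHom.id F)) : C.Gam (C.Gam g) = g := by
  apply gl_injective
  apply Units.ext
  ext a b
  rw [Gam_apply, Gam_apply, tau_tau, tau_tau]

/-- the action of the graph automorphism on the shapes -/
theorem Gam_sh {P : Fin N → Fin N → Prop} {g : SUm N F (RingHom.id F)}
    (hg : g ∈ Sh N F (RingHom.id F) P) :
    C.Gam g ∈ Sh N F (RingHom.id F) (fun a b => P (C.tau a) (C.tau b)) := by
  constructor
  · intro a
    rw [Gam_apply, hg.1]
  · intro a b hab hP
    rw [Gam_apply, hg.2 _ _ (fun e => hab (C.tau.injective e)) hP]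

/-- a shape avoiding the two middle coordinates is fixed by the graph automorphism -/
theorem Gam_fix_sh {P : Fin N → Fin N → Prop}
    (hP : ∀ a b, P a b → C.tau a = a ∧ C.tau b = b) {g : SUm N F (RingHom.id F)}
    (hg : g ∈ Sh N F (RingHom.id F) P) : C.Gam g = g := by
  apply gl_injective
  apply Units.ext
  ext a b
  rw [Gam_apply]
  by_cases hab : a = b
  · rw [hab, hg.1, hg.1]
  · by_cases h1 : P a b
    · rw [(hP a b h1).1, (hP a b h1).2]
    · rw [hg.2 a b hab h1]
      apply hg.2 _ _ (fun e => hab (C.tau.injective e))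
      intro h2
      obtain ⟨e1, e2⟩ := hP _ _ h2
      rw [tau_tau] at e1 e2
      apply h1
      rw [e1, e2]
      exact h2

section fin

variable [Fintype F]

theorem Gam_fix_Xp {j : ℕ} (hj : j < C.κ) {g : SUm N F (RingHom.id F)}
    (hg : g ∈ Xp N F (RingHom.id F) j) : C.Gam g = g := by
  have hN := C.hN
  have hg' : g ∈ (Xp N F (RingHom.id F) j : Set (SUm N F (RingHom.id F))) := hg
  rw [Xp_eq_Sh (by omega)] at hg'
  apply C.Gam_fix_sh _ hg'
  rintro a b ⟨hab, hb⟩
  have ha2 := a.2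
  have hb2 := b.2
  rw [Fin.lt_def] at hab
  unfold blk at hb
  constructor
  · exact C.tau_fix a (by omega) (by omega)
  · exact C.tau_fix b (by omega) (by omega)

theorem Gam_fix_Xm {j : ℕ} (hj : j < C.κ) {g : SUm N F (RingHom.id F)}
    (hg : g ∈ Xm N F (RingHom.id F) j) : C.Gam g = g := by
  have hN := C.hN
  have hg' : g ∈ (Xm N F (RingHom.id F) j : Set (SUm N F (RingHom.id F))) := hg
  rw [Xm_eq_Sh (by omega)] at hg'
  apply C.Gam_fix_sh _ hg'
  rintro a b ⟨hab, hb⟩
  have ha2 := a.2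
  have hb2 := b.2
  rw [Fin.lt_def] at hab
  unfold blk at hb
  constructor
  · exact C.tau_fix a (by omega) (by omega)
  · exact C.tau_fix b (by omega) (by omega)

/-- the fixed points of the graph automorphism -/
def GamFix : Subgroup (SUm N F (RingHom.id F)) where
  carrier := {g | C.Gam g = g}
  mul_mem' := by
    intro a b ha hb
    show C.Gam (a * b) = a * b
    have ha' : C.Gam a = a := ha
    have hb' : C.Gam b = b := hb
    rw [map_mul, ha', hb']
  one_mem' := map_one _
  inv_mem' := by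
    intro a ha
    show C.Gam a⁻¹ = a⁻¹
    have ha' : C.Gam a = a := ha
    rw [map_inv, ha']

theorem Gam_fix_LL {j : ℕ} (hj : j < C.κ) {g : SUm N F (RingHom.id F)}
    (hg : g ∈ LL N F (RingHom.id F) j) : C.Gam g = g := by
  have h : LL N F (RingHom.id F) j ≤ C.GamFix (F := F) := by
    unfold LL
    rw [Subgroup.closure_le]
    rintro x (hx | hx)
    · exact C.Gam_fix_Xp hj hx
    · exact C.Gam_fix_Xm hj hx
  exact h hg

/-- the model of `Ω⁺`: the subgroup generated by the root subgroups of the chain nodes and of the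
fork node -/
noncomputable def GD : Subgroup (SUm N F (RingHom.id F)) :=
  (⨆ j : Fin (C.κ + 1), LL N F (RingHom.id F) (j : ℕ))
    ⊔ (LL N F (RingHom.id F) C.κ).map (C.Gam (F := F)).toMonoidHom

theorem LL_le_GD {j : ℕ} (hj : j ≤ C.κ) : LL N F (RingHom.id F) j ≤ C.GD :=
  le_trans (le_iSup (fun j : Fin (C.κ + 1) => LL N F (RingHom.id F) (j : ℕ))
    ⟨j, by omega⟩) le_sup_left

theorem fork_le_GD : (LL N F (RingHom.id F) C.κ).map (C.Gam (F := F)).toMonoidHom ≤ C.GD :=
  le_sup_right

/-- `GD` is invariant under the graph automorphism -/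
theorem Gam_mem_GD {g : SUm N F (RingHom.id F)} (hg : g ∈ C.GD (F := F)) :
    C.Gam g ∈ C.GD (F := F) := by
  have h : C.GD (F := F) ≤ (C.GD (F := F)).comap (C.Gam (F := F)).toMonoidHom := by
    unfold GD
    rw [sup_le_iff]
    constructor
    · apply iSup_le
      intro j x hx
      rw [Subgroup.mem_comap]
      rcases Nat.lt_or_ge (j : ℕ) C.κ with h1 | h1
      · have e : (C.Gam (F := F)).toMonoidHom x = x := C.Gam_fix_LL h1 hx
        rw [e]
        exact C.LL_le_GD (by omega) hx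
      · have e : (j : ℕ) = C.κ := by have := j.2; omega
        rw [e] at hx
        exact C.fork_le_GD ⟨x, hx, rfl⟩
    · rintro _ ⟨x, hx, rfl⟩
      rw [Subgroup.mem_comap]
      have e : (C.Gam (F := F)).toMonoidHom ((C.Gam (F := F)).toMonoidHom x) = x := C.Gam_Gam x
      rw [e]
      exact C.LL_le_GD le_rfl hx
  exact h hg

theorem Gam_mem_GD_iff {g : SUm N F (RingHom.id F)} :
    C.Gam g ∈ C.GD (F := F) ↔ g ∈ C.GD (F := F) := by
  constructor
  · intro h
    have := C.Gam_mem_GD h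
    rwa [Gam_Gam] at this
  · exact C.Gam_mem_GD

/-! ### the quadratic form -/

theorem Gam_mem_OD {g : SUm N F (RingHom.id F)} (hg : g ∈ OD N F) : C.Gam g ∈ OD N F := by
  rw [mem_OD] at hg ⊢
  rw [gl_Gam, ← map_inv, C.tau_inv, Units.val_mul, Units.val_mul, permGL_coe]
  exact ((isQ_pm_swap C.p1).mul hg).mul (isQ_pm_swap C.p1)

theorem Xp_le_OD {j : ℕ} (hj : 2 * j + 4 ≤ N) : Xp N F (RingHom.id F) j ≤ OD N F := by
  intro g hg
  obtain ⟨t, rfl⟩ := (mem_Xp_short_iff idinv hj).1 hg
  rw [mem_OD, gl_xpS]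
  exact isQ_xS _ _ _ (fin_ne (by rw [val_rev_mk]; simp only; omega))
    (fin_ne (by rw [val_rev_mk]; simp only; omega)) t

theorem Xm_le_OD {j : ℕ} (hj : 2 * j + 4 ≤ N) : Xm N F (RingHom.id F) j ≤ OD N F := by
  intro g hg
  obtain ⟨t, rfl⟩ := (mem_Xm_short_iff idinv hj).1 hg
  rw [mem_OD, gl_xmS]
  exact isQ_xS _ _ _ (fin_ne (by rw [val_rev_mk]; simp only; omega))
    (fin_ne (by rw [val_rev_mk]; simp only; omega)) t

theorem LL_le_OD {j : ℕ} (hj : 2 * j + 4 ≤ N) : LL N F (RingHom.id F) j ≤ OD N F := by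
  unfold LL
  rw [Subgroup.closure_le]
  rintro x (hx | hx)
  · exact Xp_le_OD hj hx
  · exact Xm_le_OD hj hx

/-- `GD` preserves the quadratic form -/
theorem GD_le_OD : C.GD (F := F) ≤ OD N F := by
  have hN := C.hN
  unfold GD
  rw [sup_le_iff]
  constructor
  · apply iSup_le
    intro j
    have := j.2
    exact LL_le_OD (by omega)
  · rintro _ ⟨x, hx, rfl⟩
    exact C.Gam_mem_OD (LL_le_OD (by omega) hx)

end fin

end DC

end Cfsg.Agent.Lib.Helper5.AutDO
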