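import Cfsg.Agent.Lib.Helper5.AutDO.RowClear
import Mathlib

/-!
# The pattern facts of a chain node of the special orthogonal group (helper5)

For the node `j` (`2 j + 4 ≤ N`, coordinates `j, j + 1`) of `SUm N F id`: the root elements are the
images of the elementary matrices under lead's `sO j`; the splitting `U = X_j · U_j` with `n_j`
normalising `U_j` into `U`; the rank one decomposition; the dichotomy for monomial elements.
-/

set_option autoImplicit false

namespace Cfsg.Agent.Lib.Helper5.AutDO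

open Matrix Cfsg Cfsg.Agent.Lib.Helper5.GLBN Cfsg.Agent.Lib.Helper8.SpBN
open Cfsg.Agent.Lib.Helper8.Tw Cfsg.Agent.PSUT Cfsg.Agent.Lib.Helper5.AutSU
open Cfsg.Agent.AutPSU (upT loT dgT moT)
open scoped MatrixGroups

section sl2

variable {k : Type*} [Field k]

theorem moT_one_eq : (moT (1 : k) one_ne_zero) = upT 1 * loT (-1) * upT 1 := by
  rw [← Cfsg.Agent.AutPSU.moT_eq 1 one_ne_zero, inv_one]

theorem moT_one_conj_upT (t : k) :
    moT (1 : k) one_ne_zero * upT t * (moT (1 : k) one_ne_zero)⁻¹ = loT (-t) := by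
  rw [Cfsg.Agent.AutPSU.moT_upT, mul_inv_cancel_right]
  simp

theorem loT_bruhat (c : k) (hc : c ≠ 0) :
    loT c = upT c⁻¹ * moT 1 one_ne_zero * dgT (-c) (neg_ne_zero.2 hc) * upT c⁻¹ := by
  apply Subtype.ext
  simp only [Matrix.SpecialLinearGroup.coe_mul]
  ext i j
  fin_cases i <;> fin_cases j <;>
    simp [upT, loT, moT, dgT, Matrix.mul_apply, Fin.sum_univ_two] <;> field_simp <;> ring

end sl2

variable {N : ℕ} {F : Type*} [Field F] [Fintype F]

theorem gl_sO' (j : ℕ) (hj : 2 * j + 4 ≤ N) (g : Matrix.SpecialLinearGroup (Fin 2) F) :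
    gl (Cfsg.Agent.AutPO.sO j hj g : SUm N F (RingHom.id F))
      = Cfsg.Agent.AutPSU.shortGL (RingHom.id F) (Cfsg.Agent.AutPSU.quad j hj) g := rfl

theorem xpS_eq_sO (j : ℕ) (hj : 2 * j + 4 ≤ N) (t : F) :
    (xpS idinv j hj t : SUm N F (RingHom.id F)) = Cfsg.Agent.AutPO.sO j hj (upT t) := by
  apply gl_injective
  rw [gl_xpS, gl_sO', Cfsg.Agent.AutPSU.shortGL_upT]
  rfl

theorem xmS_eq_sO (j : ℕ) (hj : 2 * j + 4 ≤ N) (t : F) :
    (xmS idinv j hj t : SUm N F (RingHom.id F)) = Cfsg.Agent.AutPO.sO j hj (loT t) := by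
  apply gl_injective
  rw [gl_xmS, gl_sO', Cfsg.Agent.AutPSU.shortGL_loT]
  rfl

theorem nS_eq_sO (j : ℕ) (hj : 2 * j + 4 ≤ N) :
    (nS j hj : SUm N F (RingHom.id F)) = Cfsg.Agent.AutPO.sO j hj (moT 1 one_ne_zero) := by
  unfold nS
  rw [xpS_eq_sO, xmS_eq_sO, moT_one_eq, map_mul, map_mul]

theorem xpS_mul (j : ℕ) (hj : 2 * j + 4 ≤ N) (s t : F) :
    (xpS idinv j hj s * xpS idinv j hj t : SUm N F (RingHom.id F)) = xpS idinv j hj (s + t) := by
  rw [xpS_eq_sO, xpS_eq_sO, xpS_eq_sO, ← map_mul, ← Cfsg.Agent.AutPSU.upT_add]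

theorem xpS_inv (j : ℕ) (hj : 2 * j + 4 ≤ N) (t : F) :
    (xpS idinv j hj t : SUm N F (RingHom.id F))⁻¹ = xpS idinv j hj (-t) := by
  rw [xpS_eq_sO, xpS_eq_sO, ← map_inv, Cfsg.Agent.AutPSU.upT_inv]

theorem xpS_zero (j : ℕ) (hj : 2 * j + 4 ≤ N) :
    (xpS idinv j hj 0 : SUm N F (RingHom.id F)) = 1 := by
  rw [xpS_eq_sO, Cfsg.Agent.AutPSU.upT_zero, map_one]

/-- the monomial element conjugates the positive root elements to the negative ones -/
theorem nS_conj_xpS (j : ℕ) (hj : 2 * j + 4 ≤ N) (t : F) :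
    (nS j hj * xpS idinv j hj t * (nS j hj)⁻¹ : SUm N F (RingHom.id F))
      = xmS idinv j hj (-t) := by
  rw [nS_eq_sO, xpS_eq_sO, xmS_eq_sO, ← map_inv, ← map_mul, ← map_mul, moT_one_conj_upT]

/-- the torus elements of the node -/
noncomputable def hS (j : ℕ) (hj : 2 * j + 4 ≤ N) (a : F) (ha : a ≠ 0) : SUm N F (RingHom.id F) :=
  Cfsg.Agent.AutPO.sO j hj (dgT a ha)

theorem hS_mem_TT (j : ℕ) (hj : 2 * j + 4 ≤ N) (a : F) (ha : a ≠ 0) :
    hS j hj a ha ∈ TT N F (RingHom.id F) := by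
  rw [mem_TT]
  intro x y hxy
  unfold hS
  rw [gl_sO', Cfsg.Agent.AutPSU.shortGL_dgT, Cfsg.Agent.Lib.Helper8.AutSp.dgU_coe,
    Matrix.diagonal_apply_ne _ hxy]

theorem hS_mem_LL (j : ℕ) (hj : 2 * j + 4 ≤ N) (a : F) (ha : a ≠ 0) :
    hS j hj a ha ∈ LL N F (RingHom.id F) j := by
  unfold hS
  apply Cfsg.Agent.AutPSU.sl2_map_mem
  · intro t
    rw [← xpS_eq_sO]
    exact Xp_le_LL j (xpS_mem_Xp idinv j hj t)
  · intro t
    rw [← xmS_eq_sO]
    exact Xm_le_LL j (xmS_mem_Xm idinv j hj t)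

/-- the rank one decomposition -/
theorem xmS_bruhat (j : ℕ) (hj : 2 * j + 4 ≤ N) (c : F) (hc : c ≠ 0) :
    (xmS idinv j hj c : SUm N F (RingHom.id F))
      = xpS idinv j hj c⁻¹ * nS j hj * hS j hj (-c) (neg_ne_zero.2 hc) * xpS idinv j hj c⁻¹ := by
  unfold hS
  rw [xmS_eq_sO, xpS_eq_sO, nS_eq_sO, ← map_mul, ← map_mul, ← map_mul, ← loT_bruhat c hc]

/-! ### patterns -/

/-- a shape above the diagonal consists of unitriangular elements -/
theorem sh_le_UU {P : Fin N → Fin N → Prop} (hP : ∀ a b, P a b → a < b)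
    {g : SUm N F (RingHom.id F)} (hg : g ∈ Sh N F (RingHom.id F) P) :
    g ∈ UU N F (RingHom.id F) := by
  rw [mem_UU]
  refine ⟨fun a b hba => hg.2 a b (ne_of_gt hba) (fun h => lt_asymm hba (hP a b h)), hg.1⟩

/-- the conjugate of a unitriangular element by a monomial one is unitriangular if the entries
at the inversions vanish -/
theorem conj_mem_UU {n u : SUm N F (RingHom.id F)} {π : Equiv.Perm (Fin N)}
    (hn : IsMono ((gl n : GL (Fin N) F) : Matrix (Fin N) (Fin N) F) π)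
    (hu : u ∈ UU N F (RingHom.id F))
    (hz : ∀ i j : Fin N, j < i → π i < π j →
      ((gl u : GL (Fin N) F) : Matrix (Fin N) (Fin N) F) (π i) (π j) = 0) :
    n⁻¹ * u * n ∈ UU N F (RingHom.id F) := by
  obtain ⟨hlow, hdiag⟩ := mem_UU.1 hu
  rw [mem_UU]
  constructor
  · intro i j hji
    rw [gl_mul, gl_mul, gl_inv, mono_conj_apply hn]
    have h0 : ((gl u : GL (Fin N) F) : Matrix (Fin N) (Fin N) F) (π i) (π j) = 0 := by
      rcases lt_trichotomy (π i) (π j) with h | h | h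
      · exact hz i j hji h
      · exact absurd (π.injective h) (ne_of_gt hji)
      · exact hlow _ _ h
    rw [h0, mul_zero, zero_mul]
  · intro i
    rw [gl_mul, gl_mul, gl_inv, mono_conj_apply hn, hdiag, mul_one, IsMono_inv_apply hn]

/-- the inversions of the reflection of a chain node -/
theorem rho_short_inversion {j : ℕ} (hj : j + 1 < N / 2) (i k : Fin N) (hki : k < i)
    (h : rho N j i < rho N j k) :
    ((i : ℕ) = j + 1 ∧ (k : ℕ) = j) ∨ ((i : ℕ) + j + 1 = N ∧ (k : ℕ) + j + 2 = N) := by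
  rw [Fin.lt_def] at hki h
  rw [rho_val_short hj, rho_val_short hj] at h
  have hi := i.2
  have hk := k.2
  split_ifs at h <;> omega

/-- the mirror of a vanishing entry next to the diagonal vanishes -/
theorem adj_zero {u : SUm N F (RingHom.id F)} (hu : u ∈ UU N F (RingHom.id F)) {j : ℕ}
    (hj : 2 * j + 4 ≤ N)
    (h : ((gl u : GL (Fin N) F) : Matrix (Fin N) (Fin N) F) ⟨j, by omega⟩ ⟨j + 1, by omega⟩ = 0) :
    ((gl u : GL (Fin N) F) : Matrix (Fin N) (Fin N) F) (⟨j + 1, by omega⟩ : Fin N).rev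
      (⟨j, by omega⟩ : Fin N).rev = 0 := by
  obtain ⟨hlow, hdiag⟩ := mem_UU.1 hu
  have hu' := row_unitary (gl_mem_UH u) (⟨j, by omega⟩ : Fin N) (⟨j + 1, by omega⟩ : Fin N).rev
  rw [Fin.rev_rev, if_neg (fin_ne (by simp)), Finset.sum_eq_single (⟨j, by omega⟩ : Fin N)] at hu'
  · rw [hdiag, one_mul, RingHom.id_apply] at hu'
    exact hu'
  · intro i _ hi
    have hiv : (i : ℕ) ≠ j := fun e => hi (Fin.ext e)
    rcases Nat.lt_or_ge (i : ℕ) j with h1 | h1
    · rw [hlow _ i (by rw [Fin.lt_def]; exact h1), zero_mul]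
    · by_cases h2 : (i : ℕ) = j + 1
      · have e : i = ⟨j + 1, by omega⟩ := Fin.ext h2
        rw [e, h, zero_mul]
      · have h3 : i.rev < (⟨j + 1, by omega⟩ : Fin N).rev := by
          rw [Fin.rev_lt_rev, Fin.lt_def]
          simp only
          omega
        rw [hlow _ _ h3, map_zero, mul_zero]
  · intro h
    exact absurd (Finset.mem_univ _) h

/-- the splitting `U = X_j U_j`, the monomial element normalising `U_j` into `U` -/
theorem chain_split {j : ℕ} (hj : 2 * j + 4 ≤ N) {u : SUm N F (RingHom.id F)}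
    (hu : u ∈ UU N F (RingHom.id F)) :
    ∃ t : F, ∃ v ∈ UU N F (RingHom.id F), u = xpS idinv j hj t * v ∧
      nS j hj * v * (nS j hj)⁻¹ ∈ UU N F (RingHom.id F) := by
  have ha : j < N := by omega
  have hb : j + 1 < N := by omega
  obtain ⟨t, ht⟩ : ∃ t : F,
    ((gl u : GL (Fin N) F) : Matrix (Fin N) (Fin N) F) ⟨j, ha⟩ ⟨j + 1, hb⟩ = t := ⟨_, rfl⟩
  have hxU : ∀ s : F, xpS idinv j hj s ∈ UU N F (RingHom.id F) := fun s =>
    Xp_le_UU j (xpS_mem_Xp idinv j hj s)
  have hvU : xpS idinv j hj (-t) * u ∈ UU N F (RingHom.id F) := mul_mem (hxU _) hu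
  have hra : (((⟨j, ha⟩ : Fin N).rev : Fin N) : ℕ) = N - (j + 1) := by rw [Fin.val_rev]
  have hrb : (((⟨j + 1, hb⟩ : Fin N).rev : Fin N) : ℕ) = N - (j + 1 + 1) := by rw [Fin.val_rev]
  have hz1 : ((gl (xpS idinv j hj (-t) * u) : GL (Fin N) F) : Matrix (Fin N) (Fin N) F)
      ⟨j, ha⟩ ⟨j + 1, hb⟩ = 0 := by
    rw [gl_mul, Units.val_mul, gl_xpS, xS_mul_apply_row _ _ _ _
      (fin_ne (by rw [hrb]; simp only; omega)) (fin_ne (by rw [hrb]; simp only; omega)), ht,
      (mem_UU.1 hu).2]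
    ring
  have hz2 := adj_zero hvU hj hz1
  refine ⟨t, xpS idinv j hj (-t) * u, hvU, ?_, ?_⟩
  · rw [← mul_assoc, xpS_mul, add_neg_cancel, xpS_zero, one_mul]
  · have hn : IsMono ((gl ((nS j hj)⁻¹ : SUm N F (RingHom.id F)) : GL (Fin N) F) :
        Matrix (Fin N) (Fin N) F) (rho N j)⁻¹ := by
      rw [gl_inv]
      exact (isMono_nS j hj).inv
    have hρ : (rho N j)⁻¹ = rho N j := by
      rw [inv_eq_iff_mul_eq_one]
      exact rho_sq j (by omega)
    rw [hρ] at hn
    have key := conj_mem_UU hn hvU (by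
      intro i k hki hlt
      rcases rho_short_inversion (by omega) i k hki hlt with ⟨e1, e2⟩ | ⟨e1, e2⟩
      · have hi : rho N j i = ⟨j, ha⟩ := rho_short_down (by omega) _ _ e1 rfl
        have hk : rho N j k = ⟨j + 1, hb⟩ := rho_short_up (by omega) _ _ e2 rfl
        rw [hi, hk]
        exact hz1
      · have hi : rho N j i = (⟨j + 1, hb⟩ : Fin N).rev := by
          apply Fin.ext
          rw [rho_val_short (by omega), hrb]
          split_ifs <;> omega
        have hk : rho N j k = (⟨j, ha⟩ : Fin N).rev := by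
          apply Fin.ext
          rw [rho_val_short (by omega), hra]
          split_ifs <;> omega
        rw [hi, hk]
        exact hz2)
    rw [inv_inv] at key
    exact key

/-- the conjugate of a positive root element of the node by a monomial element which preserves the
order of the two coordinates is unitriangular -/
theorem conj_xpS_mem_UU {j : ℕ} (hj : 2 * j + 4 ≤ N) {ν : SUm N F (RingHom.id F)}
    {π : Equiv.Perm (Fin N)}
    (hν : IsMono ((gl ν : GL (Fin N) F) : Matrix (Fin N) (Fin N) F) π)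
    (hπ : ∀ x, π x.rev = (π x).rev)
    (h : ∀ x y : Fin N, (π x : ℕ) = j → (π y : ℕ) = j + 1 → x < y) (t : F) :
    ν⁻¹ * xpS idinv j hj t * ν ∈ UU N F (RingHom.id F) := by
  have ha : j < N := by omega
  have hb : j + 1 < N := by omega
  have hra : (((⟨j, ha⟩ : Fin N).rev : Fin N) : ℕ) = N - (j + 1) := by rw [Fin.val_rev]
  have hrb : (((⟨j + 1, hb⟩ : Fin N).rev : Fin N) : ℕ) = N - (j + 1 + 1) := by rw [Fin.val_rev]
  have hsh : xpS idinv j hj t ∈ Sh N F (RingHom.id F) (PS (⟨j, ha⟩ : Fin N) ⟨j + 1, hb⟩) :=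
    xS_mem_Sh idinv _ _ (fin_ne (by simp)) (fin_ne (by rw [hrb]; simp only; omega))
      (fin_ne (by rw [hra]; simp only; omega)) (fin_ne (by rw [hrb]; simp only; omega)) t
  apply sh_le_UU _ (sh_conj hν hsh)
  rintro x y (⟨e1, e2⟩ | ⟨e1, e2⟩)
  · exact h x y (by rw [e1]) (by rw [e2])
  · have e1' : π x.rev = ⟨j + 1, hb⟩ := by rw [hπ, e1, Fin.rev_rev]
    have e2' : π y.rev = ⟨j, ha⟩ := by rw [hπ, e2, Fin.rev_rev]
    have := h y.rev x.rev (by rw [e2']) (by rw [e1'])
    exact Fin.rev_lt_rev.1 this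

/-- the dichotomy for a chain node -/
theorem chain_dich {j : ℕ} (hj : 2 * j + 4 ≤ N) {ν : SUm N F (RingHom.id F)}
    {π : Equiv.Perm (Fin N)}
    (hν : IsMono ((gl ν : GL (Fin N) F) : Matrix (Fin N) (Fin N) F) π)
    (hπ : ∀ x, π x.rev = (π x).rev) :
    (∀ t : F, ν⁻¹ * xpS idinv j hj t * ν ∈ UU N F (RingHom.id F)) ∨
      (∀ t : F, (nS j hj * ν)⁻¹ * xpS idinv j hj t * (nS j hj * ν) ∈ UU N F (RingHom.id F)) := by
  have ha : j < N := by omega
  have hb : j + 1 < N := by omega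
  rcases lt_trichotomy (π⁻¹ ⟨j, ha⟩) (π⁻¹ ⟨j + 1, hb⟩) with h | h | h
  · left
    intro t
    apply conj_xpS_mem_UU hj hν hπ _ t
    intro x y hx hy
    have ex : x = π⁻¹ ⟨j, ha⟩ := by
      rw [Equiv.Perm.eq_inv_iff_eq]
      exact Fin.ext hx
    have ey : y = π⁻¹ ⟨j + 1, hb⟩ := by
      rw [Equiv.Perm.eq_inv_iff_eq]
      exact Fin.ext hy
    rw [ex, ey]
    exact h
  · exfalso
    have := (π⁻¹).injective h
    have := congrArg Fin.val this
    simp at this
  · right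
    intro t
    have hνn : IsMono ((gl (nS j hj * ν) : GL (Fin N) F) : Matrix (Fin N) (Fin N) F)
        (rho N j * π) := by
      rw [gl_mul, Units.val_mul]
      exact (isMono_nS j hj).mul hν
    apply conj_xpS_mem_UU hj hνn _ _ t
    · intro x
      rw [Equiv.Perm.mul_apply, Equiv.Perm.mul_apply, hπ, rho_rev (by omega)]
    · intro x y hx hy
      rw [Equiv.Perm.mul_apply] at hx hy
      -- `π x = j + 1` and `π y = j`
      have h1 : π x = ⟨j + 1, hb⟩ := by
        have e : rho N j (rho N j (π x)) = rho N j ⟨j, ha⟩ := by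
          congr 1
          exact Fin.ext hx
        have hsq : ∀ z, rho N j (rho N j z) = z := fun z => by
          rw [← Equiv.Perm.mul_apply, rho_sq j (by omega), Equiv.Perm.one_apply]
        rw [hsq, rho_short_up (j := j) (by omega) ⟨j, ha⟩ ⟨j + 1, hb⟩ rfl rfl] at e
        exact e
      have h2 : π y = ⟨j, ha⟩ := by
        have e : rho N j (rho N j (π y)) = rho N j ⟨j + 1, hb⟩ := by
          congr 1
          exact Fin.ext hy
        have hsq : ∀ z, rho N j (rho N j z) = z := fun z => by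
          rw [← Equiv.Perm.mul_apply, rho_sq j (by omega), Equiv.Perm.one_apply]
        rw [hsq, rho_short_down (j := j) (by omega) ⟨j + 1, hb⟩ ⟨j, ha⟩ rfl rfl] at e
        exact e
      have ex : x = π⁻¹ ⟨j + 1, hb⟩ := by
        rw [Equiv.Perm.eq_inv_iff_eq]
        exact h1
      have ey : y = π⁻¹ ⟨j, ha⟩ := by
        rw [Equiv.Perm.eq_inv_iff_eq]
        exact h2
      rw [ex, ey]
      exact h

end Cfsg.Agent.Lib.Helper5.AutDO
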