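import Cfsg.Agent.Lib.Helper5.AutDO.Opp1
import Mathlib

/-!
# `Ω⁺_{2κ+4}`: opposition (helper5)

Conjugation by a monomial element of the model whose permutation is "opposite" (`IsOpp`: the
reversal, or the reversal times the swap of the two middle coordinates) exchanges `UD` and `VD`,
and carries the negative fundamental root subgroups onto the positive ones (`exists_n0`).
-/

set_option autoImplicit false

namespace Cfsg.Agent.Lib.Helper5.AutDO

open Matrix Cfsg Cfsg.Agent.Lib.Helper5.GLBN Cfsg.Agent.Lib.Helper8.SpBN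
open Cfsg.Agent.Lib.Helper8.Tw Cfsg.Agent.PSUT Cfsg.Agent.Lib.Helper5.AutSU
open Cfsg.Agent.Lib.Helper5.AutBN
open scoped MatrixGroups

variable {N : ℕ} {F : Type*} [Field F] [Fintype F]

/-- shapes which agree off the diagonal -/
theorem sh_congr {P P' : Fin N → Fin N → Prop} (h : ∀ a b, a ≠ b → P a b → P' a b) :
    Sh N F (RingHom.id F) P ⊆ Sh N F (RingHom.id F) P' :=
  fun _ hg => ⟨hg.1, fun a b hab hP => hg.2 a b hab (fun hp => hP (h a b hab hp))⟩

theorem revPerm_mul_self' : (Fin.revPerm : Equiv.Perm (Fin N)) * Fin.revPerm = 1 := by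
  apply Equiv.ext
  intro x
  rw [Equiv.Perm.mul_apply, Fin.revPerm_apply, Fin.revPerm_apply, Fin.rev_rev]
  rfl

namespace DC

variable (C : DC N)

/-- an opposite permutation: it reverses the order, except possibly on the two middle
coordinates -/
def IsOpp (π : Equiv.Perm (Fin N)) : Prop :=
  ∀ i j : Fin N, i < j → π i < π j → π i = C.p1 ∧ π j = C.p1.rev

theorem isOpp_rev : C.IsOpp (Fin.revPerm : Equiv.Perm (Fin N)) := by
  intro i j hij h
  exfalso
  rw [Fin.revPerm_apply, Fin.revPerm_apply, Fin.rev_lt_rev] at h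
  exact lt_asymm hij h

theorem isOpp_rev_tau : C.IsOpp (Fin.revPerm * C.tau) := by
  intro i j hij h
  rw [Equiv.Perm.mul_apply, Equiv.Perm.mul_apply, Fin.revPerm_apply, Fin.revPerm_apply,
    Fin.rev_lt_rev] at h
  obtain ⟨e1, e2⟩ := C.tau_inversion j i hij h
  rw [Equiv.Perm.mul_apply, Equiv.Perm.mul_apply, Fin.revPerm_apply, Fin.revPerm_apply, e1, e2]
  unfold tau
  rw [Equiv.swap_apply_left, Equiv.swap_apply_right, Fin.rev_rev]
  exact ⟨rfl, rfl⟩

theorem rev_tau_mul_self :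
    ((Fin.revPerm : Equiv.Perm (Fin N)) * C.tau) * (Fin.revPerm * C.tau) = 1 := by
  apply Equiv.ext
  intro x
  rw [Equiv.Perm.mul_apply, Equiv.Perm.mul_apply, Equiv.Perm.mul_apply, Fin.revPerm_apply,
    Fin.revPerm_apply, C.tau_rev, Fin.rev_rev, C.tau_tau]
  rfl

/-- conjugation by an opposite monomial element carries the upper unitriangular elements of the
model to lower unitriangular ones -/
theorem conj_UU_mem_VV {n u : SUm N F (RingHom.id F)} {π : Equiv.Perm (Fin N)}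
    (hn : IsMono ((gl n : GL (Fin N) F) : Matrix (Fin N) (Fin N) F) π) (hπ : C.IsOpp π)
    (hG : u ∈ C.GD (F := F)) (hu : u ∈ UU N F (RingHom.id F)) :
    n⁻¹ * u * n ∈ VV N F (RingHom.id F) := by
  obtain ⟨hlow, hdiag⟩ := mem_UU.1 hu
  rw [mem_VV]
  constructor
  · intro i j hij
    rw [gl_mul, gl_mul, gl_inv, mono_conj_apply hn]
    have h0 : ((gl u : GL (Fin N) F) : Matrix (Fin N) (Fin N) F) (π i) (π j) = 0 := by
      rcases lt_trichotomy (π i) (π j) with h | h | h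
      · obtain ⟨e1, e2⟩ := hπ i j hij h
        rw [e1, e2]
        exact C.upper_mid_zero hG (UU_le_BB hu)
      · exact absurd (π.injective h) (ne_of_lt hij)
      · exact hlow _ _ h
    rw [h0, mul_zero, zero_mul]
  · intro i
    rw [gl_mul, gl_mul, gl_inv, mono_conj_apply hn, hdiag, mul_one, IsMono_inv_apply hn]

/-- conjugation by an opposite monomial element carries the lower unitriangular elements of the
model to upper unitriangular ones -/
theorem conj_VV_mem_UU {n v : SUm N F (RingHom.id F)} {π : Equiv.Perm (Fin N)}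
    (hn : IsMono ((gl n : GL (Fin N) F) : Matrix (Fin N) (Fin N) F) π) (hπ : C.IsOpp π)
    (hG : v ∈ C.GD (F := F)) (hv : v ∈ VV N F (RingHom.id F)) :
    n⁻¹ * v * n ∈ UU N F (RingHom.id F) := by
  obtain ⟨hup, hdiag⟩ := mem_VV.1 hv
  rw [mem_UU]
  constructor
  · intro i j hji
    rw [gl_mul, gl_mul, gl_inv, mono_conj_apply hn]
    have h0 : ((gl v : GL (Fin N) F) : Matrix (Fin N) (Fin N) F) (π i) (π j) = 0 := by
      rcases lt_trichotomy (π i) (π j) with h | h | h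
      · exact hup _ _ h
      · exact absurd (π.injective h) (ne_of_gt hji)
      · obtain ⟨e1, e2⟩ := hπ j i hji h
        rw [e1, e2]
        exact C.lower_mid_zero hG hv
    rw [h0, mul_zero, zero_mul]
  · intro i
    rw [gl_mul, gl_mul, gl_inv, mono_conj_apply hn, hdiag, mul_one, IsMono_inv_apply hn]

theorem isMono_inv_of_sq {n : C.Dm F} {π : Equiv.Perm (Fin N)}
    (hn : IsMono ((C.gd n : GL (Fin N) F) : Matrix (Fin N) (Fin N) F) π) (hπ2 : π * π = 1) :
    IsMono ((C.gd n⁻¹ : GL (Fin N) F) : Matrix (Fin N) (Fin N) F) π := by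
  have hinv : π⁻¹ = π := inv_eq_of_mul_eq_one_right hπ2
  rw [gd_inv]
  have := hn.inv
  rwa [hinv] at this

theorem conj_inv_coe (n x : C.Dm F) :
    ((n⁻¹ : C.Dm F) : SUm N F (RingHom.id F))⁻¹ * ((n⁻¹ * x * n : C.Dm F) : SUm N F (RingHom.id F))
      * ((n⁻¹ : C.Dm F) : SUm N F (RingHom.id F)) = (x : SUm N F (RingHom.id F)) := by
  push_cast
  group

/-- conjugation by an opposite monomial element exchanges `UD` and `VD` -/
theorem cj_UD_of_isOpp {n : C.Dm F} {π : Equiv.Perm (Fin N)}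
    (hn : IsMono ((C.gd n : GL (Fin N) F) : Matrix (Fin N) (Fin N) F) π) (hπ : C.IsOpp π)
    (hπ2 : π * π = 1) : cj n (C.UD (F := F)) = C.VD := by
  have hn' := C.isMono_inv_of_sq hn hπ2
  ext x
  rw [mem_cj, mem_UD, mem_VD]
  constructor
  · intro h
    have h1 := C.conj_UU_mem_VV hn' hπ (n⁻¹ * x * n).2 h
    rwa [C.conj_inv_coe] at h1
  · intro h
    exact C.conj_VV_mem_UU hn hπ x.2 h

theorem cj_VD_of_isOpp {n : C.Dm F} {π : Equiv.Perm (Fin N)}
    (hn : IsMono ((C.gd n : GL (Fin N) F) : Matrix (Fin N) (Fin N) F) π) (hπ : C.IsOpp π)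
    (hπ2 : π * π = 1) : cj n (C.VD (F := F)) = C.UD := by
  have hn' := C.isMono_inv_of_sq hn hπ2
  ext x
  rw [mem_cj, mem_UD, mem_VD]
  constructor
  · intro h
    have h1 := C.conj_VV_mem_UU hn' hπ (n⁻¹ * x * n).2 h
    rwa [C.conj_inv_coe] at h1
  · intro h
    exact C.conj_UU_mem_VV hn hπ x.2 h

/-- conjugation of subgroups of the model given by shapes -/
theorem cj_eq_of_sh {n : C.Dm F} {π : Equiv.Perm (Fin N)}
    (hn : IsMono ((C.gd n : GL (Fin N) F) : Matrix (Fin N) (Fin N) F) π) (hπ2 : π * π = 1)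
    {K K' : Subgroup (C.Dm F)} {P P' : Fin N → Fin N → Prop}
    (hK : ∀ g : C.Dm F, g ∈ K ↔ (g : SUm N F (RingHom.id F)) ∈ Sh N F (RingHom.id F) P)
    (hK' : ∀ g : C.Dm F, g ∈ K' ↔ (g : SUm N F (RingHom.id F)) ∈ Sh N F (RingHom.id F) P')
    (hP : ∀ a b, a ≠ b → (P (π a) (π b) ↔ P' a b)) : cj n K = K' := by
  have hn' := C.isMono_inv_of_sq hn hπ2
  have hππ : ∀ x, π (π x) = x := fun x => by
    rw [← Equiv.Perm.mul_apply, hπ2, Equiv.Perm.one_apply]
  ext x
  rw [mem_cj, hK, hK']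
  constructor
  · intro h
    have h1 := sh_conj hn' h
    rw [C.conj_inv_coe] at h1
    exact sh_congr (fun a b hab hp => (hP a b hab).1 hp) h1
  · intro h
    have h1 := sh_conj hn h
    refine sh_congr ?_ h1
    intro a b hab hp
    have := (hP (π a) (π b) (fun e => hab (π.injective e))).2 hp
    rwa [hππ, hππ] at this

/-- the shapes of the positive fundamental root subgroups -/
def PXD (i : Fin (C.κ + 2)) : Fin N → Fin N → Prop :=
  if (i : ℕ) ≤ C.κ then fun a b => a < b ∧ blk N i a b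
  else fun a b => C.tau a < C.tau b ∧ blk N C.κ (C.tau a) (C.tau b)

/-- the shapes of the negative fundamental root subgroups -/
def PYD (i : Fin (C.κ + 2)) : Fin N → Fin N → Prop :=
  if (i : ℕ) ≤ C.κ then fun a b => b < a ∧ blk N i a b
  else fun a b => C.tau b < C.tau a ∧ blk N C.κ (C.tau a) (C.tau b)

theorem Gam_mem_sh_iff {P : Fin N → Fin N → Prop} {g : SUm N F (RingHom.id F)} :
    C.Gam g ∈ Sh N F (RingHom.id F) P
      ↔ g ∈ Sh N F (RingHom.id F) (fun a b => P (C.tau a) (C.tau b)) := by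
  constructor
  · intro h
    have h1 := C.Gam_sh h
    rwa [C.Gam_Gam] at h1
  · intro h
    refine sh_mono ?_ (C.Gam_sh h)
    intro a b hp
    rwa [C.tau_tau, C.tau_tau] at hp

theorem mem_XD_iff (i : Fin (C.κ + 2)) {g : C.Dm F} :
    g ∈ C.XD i ↔ (g : SUm N F (RingHom.id F)) ∈ Sh N F (RingHom.id F) (C.PXD i) := by
  have hN := C.hN
  have hi := i.2
  by_cases h : (i : ℕ) ≤ C.κ
  · rw [XD_le _ _ h, mem_XC, ← SetLike.mem_coe, Xp_eq_Sh (by omega)]
    unfold PXD
    rw [if_pos h]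
  · rw [XD_fork _ _ h, mem_XF, mem_XC, ← SetLike.mem_coe, Xp_eq_Sh (by omega), GamD_coe,
      Gam_mem_sh_iff]
    unfold PXD
    rw [if_neg h]

theorem mem_YD_iff (i : Fin (C.κ + 2)) {g : C.Dm F} :
    g ∈ C.YD i ↔ (g : SUm N F (RingHom.id F)) ∈ Sh N F (RingHom.id F) (C.PYD i) := by
  have hN := C.hN
  have hi := i.2
  by_cases h : (i : ℕ) ≤ C.κ
  · rw [YD_le _ _ h, mem_YC, ← SetLike.mem_coe, Xm_eq_Sh (by omega)]
    unfold PYD
    rw [if_pos h]
  · rw [YD_fork _ _ h, mem_YF, mem_YC, ← SetLike.mem_coe, Xm_eq_Sh (by omega), GamD_coe,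
      Gam_mem_sh_iff]
    unfold PYD
    rw [if_neg h]

theorem even (C : DC N) : N % 2 = 0 := by
  have := C.hN
  omega

/-- the blocks of a node are symmetric under the reversal -/
theorem blk_rev (hN : N % 2 = 0) (j : ℕ) (a b : Fin N) :
    blk N j ((a.rev : Fin N) : ℕ) ((b.rev : Fin N) : ℕ) ↔ blk N j a b := by
  have ha := a.2
  have hb := b.2
  obtain ⟨a', ha'⟩ : ∃ a' : ℕ, a' + (a : ℕ) + 1 = N := ⟨N - ((a : ℕ) + 1), by omega⟩
  obtain ⟨b', hb'⟩ : ∃ b' : ℕ, b' + (b : ℕ) + 1 = N := ⟨N - ((b : ℕ) + 1), by omega⟩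
  have e1 : ((a.rev : Fin N) : ℕ) = a' := by rw [Fin.val_rev]; omega
  have e2 : ((b.rev : Fin N) : ℕ) = b' := by rw [Fin.val_rev]; omega
  rw [e1, e2]
  unfold blk
  constructor
  · rintro (h | ⟨h1, h2 | h2⟩ | ⟨h1, h2 | h2⟩ | ⟨h1, h2, h3⟩ | ⟨h1, h2, h3⟩)
    · left; omega
    · right; right; left; omega
    · right; right; left; omega
    · right; left; omega
    · right; left; omega
    · omega
    · omega
  · rintro (h | ⟨h1, h2 | h2⟩ | ⟨h1, h2 | h2⟩ | ⟨h1, h2, h3⟩ | ⟨h1, h2, h3⟩)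
    · left; omega
    · right; right; left; omega
    · right; right; left; omega
    · right; left; omega
    · right; left; omega
    · omega
    · omega

theorem tau_cases (x : Fin N) :
    (((C.tau x : Fin N) : ℕ) = C.κ + 2 ∧ (x : ℕ) = C.κ + 1) ∨
    (((C.tau x : Fin N) : ℕ) = C.κ + 1 ∧ (x : ℕ) = C.κ + 2) ∨
    (((C.tau x : Fin N) : ℕ) = x ∧ (x : ℕ) ≠ C.κ + 1 ∧ (x : ℕ) ≠ C.κ + 2) := by
  rw [tau_val]
  split_ifs <;> omega

/-- the blocks of a chain node before the last one avoid the two middle coordinates -/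
theorem blk_tau {j : ℕ} (hj : j < C.κ) (a b : Fin N) (hab : a ≠ b) :
    (C.tau a < C.tau b ∧ blk N j (C.tau a) (C.tau b)) ↔ (a < b ∧ blk N j a b) := by
  have hN := C.hN
  have ha := a.2
  have hb := b.2
  have hab' : (a : ℕ) ≠ b := fun e => hab (Fin.ext e)
  have h1 := C.tau_cases a
  have h2 := C.tau_cases b
  rw [Fin.lt_def, Fin.lt_def]
  unfold blk
  omega

/-- the reversal carries the negative fundamental root subgroups to the positive ones -/
theorem cj_YD_rev {n : C.Dm F}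
    (hn : IsMono ((C.gd n : GL (Fin N) F) : Matrix (Fin N) (Fin N) F) Fin.revPerm)
    (i : Fin (C.κ + 2)) : cj n (C.YD (F := F) i) = C.XD i := by
  apply C.cj_eq_of_sh hn revPerm_mul_self' (fun _ => C.mem_YD_iff i) (fun _ => C.mem_XD_iff i)
  intro a b hab
  rw [Fin.revPerm_apply, Fin.revPerm_apply]
  unfold PYD PXD
  by_cases h : (i : ℕ) ≤ C.κ
  · rw [if_pos h, if_pos h]
    show (b.rev < a.rev ∧ _) ↔ _
    rw [Fin.rev_lt_rev, DC.blk_rev C.even]
  · rw [if_neg h, if_neg h]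
    show (C.tau b.rev < C.tau a.rev ∧ _) ↔ _
    rw [C.tau_rev, C.tau_rev, Fin.rev_lt_rev, DC.blk_rev C.even]

/-- the reversal times the swap carries the negative fundamental root subgroups to the positive
ones, exchanging the last chain node and the fork node -/
theorem cj_YD_rev_tau_lt {n : C.Dm F}
    (hn : IsMono ((C.gd n : GL (Fin N) F) : Matrix (Fin N) (Fin N) F) (Fin.revPerm * C.tau))
    (i : Fin (C.κ + 2)) (hi : (i : ℕ) < C.κ) : cj n (C.YD (F := F) i) = C.XD i := by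
  apply C.cj_eq_of_sh hn C.rev_tau_mul_self (fun _ => C.mem_YD_iff i) (fun _ => C.mem_XD_iff i)
  intro a b hab
  rw [Equiv.Perm.mul_apply, Equiv.Perm.mul_apply, Fin.revPerm_apply, Fin.revPerm_apply]
  unfold PYD PXD
  rw [if_pos (le_of_lt hi), if_pos (le_of_lt hi)]
  show ((C.tau b).rev < (C.tau a).rev ∧ _) ↔ _
  rw [Fin.rev_lt_rev, DC.blk_rev C.even]
  exact C.blk_tau hi a b hab

theorem cj_YD_rev_tau_last {n : C.Dm F}
    (hn : IsMono ((C.gd n : GL (Fin N) F) : Matrix (Fin N) (Fin N) F) (Fin.revPerm * C.tau)) :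
    cj n (C.YD (F := F) ⟨C.κ, by omega⟩) = C.XD ⟨C.κ + 1, by omega⟩ := by
  apply C.cj_eq_of_sh hn C.rev_tau_mul_self (fun _ => C.mem_YD_iff _) (fun _ => C.mem_XD_iff _)
  intro a b hab
  rw [Equiv.Perm.mul_apply, Equiv.Perm.mul_apply, Fin.revPerm_apply, Fin.revPerm_apply]
  unfold PYD PXD
  rw [if_pos (by simp), if_neg (by simp)]
  show ((C.tau b).rev < (C.tau a).rev ∧ _) ↔ _
  rw [Fin.rev_lt_rev, DC.blk_rev C.even]

theorem cj_YD_rev_tau_fork {n : C.Dm F}
    (hn : IsMono ((C.gd n : GL (Fin N) F) : Matrix (Fin N) (Fin N) F) (Fin.revPerm * C.tau)) :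
    cj n (C.YD (F := F) ⟨C.κ + 1, by omega⟩) = C.XD ⟨C.κ, by omega⟩ := by
  apply C.cj_eq_of_sh hn C.rev_tau_mul_self (fun _ => C.mem_YD_iff _) (fun _ => C.mem_XD_iff _)
  intro a b hab
  rw [Equiv.Perm.mul_apply, Equiv.Perm.mul_apply, Fin.revPerm_apply, Fin.revPerm_apply]
  unfold PYD PXD
  rw [if_neg (by simp), if_pos (by simp)]
  show (C.tau (C.tau b).rev < C.tau (C.tau a).rev ∧ _) ↔ _
  rw [C.tau_rev, C.tau_rev, C.tau_tau, C.tau_tau, Fin.rev_lt_rev, DC.blk_rev C.even]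

/-- **the longest element**: a monomial element of the model, product of the `nD i`, which
exchanges `UD` and `VD` and carries the negative fundamental root subgroups onto the positive
ones -/
theorem exists_n0 :
    ∃ n0 : C.Dm F, n0 ∈ Subgroup.closure (Set.range (C.nD (F := F))) ∧
      (∃ π0 : Equiv.Perm (Fin N),
        IsMono ((C.gd n0 : GL (Fin N) F) : Matrix (Fin N) (Fin N) F) π0 ∧ C.IsOpp π0 ∧
          π0 * π0 = 1 ∧ (π0 = Fin.revPerm ∨ π0 = Fin.revPerm * C.tau)) ∧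
      cj n0 (C.UD (F := F)) = C.VD ∧ cj n0 (C.VD (F := F)) = C.UD ∧
      (∀ i, ∃ j, cj n0 (C.YD (F := F) j) = C.XD i) ∧
      (∀ j, ∃ i, cj n0 (C.YD (F := F) j) = C.XD i) := by
  obtain ⟨n0, π0, hmem, hn, hπ⟩ := C.exists_longest (F := F)
  rcases hπ with rfl | rfl
  · refine ⟨n0, hmem, ⟨_, hn, C.isOpp_rev, revPerm_mul_self', Or.inl rfl⟩,
      C.cj_UD_of_isOpp hn C.isOpp_rev revPerm_mul_self',
      C.cj_VD_of_isOpp hn C.isOpp_rev revPerm_mul_self', ?_, ?_⟩
    · intro i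
      exact ⟨i, C.cj_YD_rev hn i⟩
    · intro j
      exact ⟨j, C.cj_YD_rev hn j⟩
  · refine ⟨n0, hmem, ⟨_, hn, C.isOpp_rev_tau, C.rev_tau_mul_self, Or.inr rfl⟩,
      C.cj_UD_of_isOpp hn C.isOpp_rev_tau C.rev_tau_mul_self,
      C.cj_VD_of_isOpp hn C.isOpp_rev_tau C.rev_tau_mul_self, ?_, ?_⟩
    · intro i
      have hi := i.2
      rcases Nat.lt_trichotomy (i : ℕ) C.κ with h | h | h
      · exact ⟨i, C.cj_YD_rev_tau_lt hn i h⟩
      · refine ⟨⟨C.κ + 1, by omega⟩, ?_⟩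
        have e : i = ⟨C.κ, by omega⟩ := Fin.ext h
        rw [e]
        exact C.cj_YD_rev_tau_fork hn
      · refine ⟨⟨C.κ, by omega⟩, ?_⟩
        have e : i = ⟨C.κ + 1, by omega⟩ := Fin.ext (by simp only; omega)
        rw [e]
        exact C.cj_YD_rev_tau_last hn
    · intro j
      have hj := j.2
      rcases Nat.lt_trichotomy (j : ℕ) C.κ with h | h | h
      · exact ⟨j, C.cj_YD_rev_tau_lt hn j h⟩
      · refine ⟨⟨C.κ + 1, by omega⟩, ?_⟩
        have e : j = ⟨C.κ, by omega⟩ := Fin.ext h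
        rw [e]
        exact C.cj_YD_rev_tau_last hn
      · refine ⟨⟨C.κ, by omega⟩, ?_⟩
        have e : j = ⟨C.κ + 1, by omega⟩ := Fin.ext (by simp only; omega)
        rw [e]
        exact C.cj_YD_rev_tau_fork hn

end DC

end Cfsg.Agent.Lib.Helper5.AutDO
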