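import Cfsg.Agent.Lib.Helper5.AutSO.GenG
import Mathlib

/-!
# The quadratic form of the even-dimensional orthogonal group of plus type (helper5)

In the coordinates of the antidiagonal form, `qD v = Σ_{i < i'} v_i v_{i'}` with `i'` the mirror of
`i`.  The matrices preserving `qD` (`IsQ`); the root elements, the diagonal orthogonal matrices and
the reflection swapping a coordinate with its mirror preserve it.  An upper triangular matrix
preserving `qD` vanishes at the two middle positions.  Uniform in the characteristic.
-/

set_option autoImplicit false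

namespace Cfsg.Agent.Lib.Helper5.AutDO

open Matrix Cfsg Cfsg.Agent.Lib.Helper5.GLBN Cfsg.Agent.Lib.Helper8.SpBN
open Cfsg.Agent.Lib.Helper8.Tw Cfsg.Agent.PSUT Cfsg.Agent.Lib.Helper5.AutSU
open scoped MatrixGroups

variable {N : ℕ} {F : Type*} [Field F]

/-- the quadratic form `Σ_{i < i'} v_i v_{i'}` -/
def qD (v : Fin N → F) : F := ∑ i : Fin N, if i < i.rev then v i * v i.rev else 0

/-- the effect on the quadratic form of a change of one coordinate -/
theorem qD_update (v : Fin N → F) (a : Fin N) (ha : a ≠ a.rev) (δ : F) :
    qD (fun i => v i + if i = a then δ else 0) = qD v + δ * v a.rev := by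
  unfold qD
  rcases lt_or_gt_of_ne ha with h | h
  · have key : ∀ i : Fin N,
        (if i < i.rev then (v i + if i = a then δ else 0) * (v i.rev + if i.rev = a then δ else 0)
          else 0)
        = (if i < i.rev then v i * v i.rev else 0) + if i = a then δ * v a.rev else 0 := by
      intro i
      by_cases hi : i < i.rev
      · rw [if_pos hi, if_pos hi]
        by_cases hia : i = a
        · rw [if_pos hia, if_pos hia, hia, if_neg (fun e => ha e.symm)]
          ring
        · have h2 : i.rev ≠ a := by
            intro e
            have e' : i = a.rev := by rw [← e, Fin.rev_rev]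
            rw [e', Fin.rev_rev] at hi
            exact lt_asymm h hi
          rw [if_neg hia, if_neg hia, if_neg h2]
          ring
      · rw [if_neg hi, if_neg hi]
        have hia : i ≠ a := fun e => hi (by rw [e]; exact h)
        rw [if_neg hia, add_zero]
    rw [Finset.sum_congr rfl (fun i _ => key i), Finset.sum_add_distrib, Finset.sum_ite_eq']
    simp
  · have key : ∀ i : Fin N,
        (if i < i.rev then (v i + if i = a then δ else 0) * (v i.rev + if i.rev = a then δ else 0)
          else 0)
        = (if i < i.rev then v i * v i.rev else 0) + if i = a.rev then δ * v a.rev else 0 := by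
      intro i
      by_cases hi : i < i.rev
      · rw [if_pos hi, if_pos hi]
        by_cases hia : i = a.rev
        · rw [if_pos hia, hia, Fin.rev_rev, if_neg (fun e => ha e.symm), if_pos rfl]
          ring
        · have h1 : i ≠ a := by
            intro e
            rw [e] at hi
            exact lt_asymm h hi
          have h2 : i.rev ≠ a := by
            intro e
            apply hia
            rw [← e, Fin.rev_rev]
          rw [if_neg hia, if_neg h1, if_neg h2]
          ring
      · rw [if_neg hi, if_neg hi]
        have hia : i ≠ a.rev := by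
          intro e
          apply hi
          rw [e, Fin.rev_rev]
          exact h
        rw [if_neg hia, add_zero]
    rw [Finset.sum_congr rfl (fun i _ => key i), Finset.sum_add_distrib, Finset.sum_ite_eq']
    simp

/-- the matrix preserves the quadratic form -/
def IsQ (M : Matrix (Fin N) (Fin N) F) : Prop := ∀ v : Fin N → F, qD (M *ᵥ v) = qD v

theorem isQ_one : IsQ (1 : Matrix (Fin N) (Fin N) F) := fun v => by rw [Matrix.one_mulVec]

theorem IsQ.mul {M M' : Matrix (Fin N) (Fin N) F} (h : IsQ M) (h' : IsQ M') : IsQ (M * M') :=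
  fun v => by rw [← Matrix.mulVec_mulVec, h, h']

theorem IsQ.of_mul_eq_one {M M' : Matrix (Fin N) (Fin N) F} (h : IsQ M) (e : M * M' = 1) :
    IsQ M' := fun v => by
  rw [← h (M' *ᵥ v), Matrix.mulVec_mulVec, e, Matrix.one_mulVec]

theorem qD_single (j : Fin N) : qD (Pi.single j (1 : F)) = 0 := by
  unfold qD
  apply Finset.sum_eq_zero
  intro i _
  by_cases hi : i < i.rev
  · rw [if_pos hi]
    by_cases hij : i = j
    · have : i.rev ≠ j := fun e => (ne_of_lt hi) (hij.trans e.symm)
      rw [Pi.single_eq_of_ne this, mul_zero]
    · rw [Pi.single_eq_of_ne hij, zero_mul]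
  · rw [if_neg hi]

/-- the criterion on the columns -/
theorem IsQ.col {M : Matrix (Fin N) (Fin N) F} (h : IsQ M) (j : Fin N) :
    (∑ i : Fin N, if i < i.rev then M i j * M i.rev j else 0) = 0 := by
  have h1 := h (Pi.single j 1)
  rw [qD_single] at h1
  have e : M *ᵥ Pi.single j (1 : F) = fun i => M i j := by
    ext i
    simp [Matrix.mulVec, dotProduct, Pi.single_apply]
  rw [e] at h1
  exact h1

/-- the action of a transvection on a vector -/
theorem tv_mulVec (a b : Fin N) (hab : a ≠ b) (c : F) (v : Fin N → F) :
    ((tv a b hab c : GL (Fin N) F) : Matrix (Fin N) (Fin N) F) *ᵥ v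
      = fun i => v i + if i = a then c * v b else 0 := by
  ext i
  rw [Matrix.mulVec, dotProduct]
  have key : ∀ j : Fin N, ((tv a b hab c : GL (Fin N) F) : Matrix (Fin N) (Fin N) F) i j * v j
      = (if i = j then v j else 0) + if j = b then (if i = a then c * v b else 0) else 0 := by
    intro j
    rw [tv_apply]
    have e1 : (if a = i ∧ b = j then c else 0) * v j
        = if j = b then (if i = a then c * v b else 0) else 0 := by
      by_cases h2 : j = b
      · by_cases h3 : i = a
        · rw [if_pos ⟨h3.symm, h2.symm⟩, if_pos h2, if_pos h3, h2]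
        · rw [if_neg (fun h => h3 h.1.symm), if_pos h2, if_neg h3, zero_mul]
      · rw [if_neg (fun h => h2 h.2.symm), if_neg h2, zero_mul]
    have e2 : (if i = j then (1 : F) else 0) * v j = if i = j then v j else 0 := by
      by_cases h1 : i = j
      · rw [if_pos h1, if_pos h1, one_mul]
      · rw [if_neg h1, if_neg h1, zero_mul]
    rw [add_mul, e1, e2]
  rw [Finset.sum_congr rfl (fun j _ => key j), Finset.sum_add_distrib, Finset.sum_ite_eq,
    Finset.sum_ite_eq']
  simp

/-- the short root elements preserve the quadratic form -/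
theorem isQ_xS (a b : Fin N) (hab : a ≠ b) (ha : a ≠ a.rev) (hb : b ≠ b.rev) (c : F) :
    IsQ ((xS (RingHom.id F) a b hab c : GL (Fin N) F) : Matrix (Fin N) (Fin N) F) := by
  intro v
  unfold xS
  rw [Units.val_mul, ← Matrix.mulVec_mulVec, tv_mulVec, tv_mulVec]
  have hb' : b.rev ≠ b.rev.rev := by rw [Fin.rev_rev]; exact hb.symm
  have e := qD_update (fun i => v i + if i = b.rev then -(RingHom.id F) c * v a.rev else 0) a ha
    (c * (v b + if b = b.rev then -(RingHom.id F) c * v a.rev else 0))
  rw [e, qD_update v b.rev hb', Fin.rev_rev, if_neg hb, add_zero, RingHom.id_apply,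
    if_neg (fun e' => hab (Fin.rev_injective e')), add_zero]
  ring

/-- the orthogonal diagonal matrices preserve the quadratic form -/
theorem isQ_diagonal (d : Fin N → F) (hd : ∀ i, d i * d i.rev = 1) :
    IsQ (Matrix.diagonal d) := by
  intro v
  unfold qD
  apply Finset.sum_congr rfl
  intro i _
  by_cases hi : i < i.rev
  · rw [if_pos hi, if_pos hi, Matrix.mulVec_diagonal, Matrix.mulVec_diagonal]
    calc d i * v i * (d i.rev * v i.rev) = (d i * d i.rev) * (v i * v i.rev) := by ring
      _ = v i * v i.rev := by rw [hd, one_mul]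
  · rw [if_neg hi, if_neg hi]

/-- the reflection swapping a coordinate with its mirror preserves the quadratic form -/
theorem isQ_pm_swap (k : Fin N) :
    IsQ (pm (Equiv.swap k k.rev) : Matrix (Fin N) (Fin N) F) := by
  intro v
  have e : (pm (Equiv.swap k k.rev) : Matrix (Fin N) (Fin N) F) *ᵥ v
      = fun i => v (Equiv.swap k k.rev i) := by
    ext i
    rw [Matrix.mulVec, dotProduct]
    have key : ∀ j : Fin N, (pm (Equiv.swap k k.rev) : Matrix (Fin N) (Fin N) F) i j * v j
        = if j = Equiv.swap k k.rev i then v j else 0 := by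
      intro j
      rw [pm_apply]
      by_cases h : i = Equiv.swap k k.rev j
      · rw [if_pos h, if_pos (by rw [h, Equiv.swap_apply_self]), one_mul]
      · rw [if_neg h, if_neg (fun e' => h (by rw [e', Equiv.swap_apply_self])), zero_mul]
    rw [Finset.sum_congr rfl (fun j _ => key j), Finset.sum_ite_eq']
    simp
  rw [e]
  unfold qD
  apply Finset.sum_congr rfl
  intro i _
  by_cases hi : i < i.rev
  · rw [if_pos hi, if_pos hi]
    show v (Equiv.swap k k.rev i) * v (Equiv.swap k k.rev i.rev) = v i * v i.rev
    by_cases h1 : i = k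
    · rw [h1, Equiv.swap_apply_left, Equiv.swap_apply_right, mul_comm]
    · by_cases h2 : i = k.rev
      · rw [h2, Fin.rev_rev, Equiv.swap_apply_left, Equiv.swap_apply_right, mul_comm]
      · have h3 : i.rev ≠ k := fun e' => h2 (by rw [← e', Fin.rev_rev])
        have h4 : i.rev ≠ k.rev := fun e' => h1 (Fin.rev_injective e')
        rw [Equiv.swap_apply_of_ne_of_ne h1 h2, Equiv.swap_apply_of_ne_of_ne h3 h4]
  · rw [if_neg hi, if_neg hi]

/-- an upper triangular matrix preserving the quadratic form vanishes at the middle position -/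
theorem IsQ.upper_mid {M : Matrix (Fin N) (Fin N) F} (h : IsQ M)
    (hup : ∀ a b : Fin N, b < a → M a b = 0) (k : Fin N) (hk : (k : ℕ) + 1 = (k.rev : Fin N)) :
    M k k.rev * M k.rev k.rev = 0 := by
  have hc := h.col k.rev
  have hkr : ((k.rev : Fin N) : ℕ) = N - (k + 1) := Fin.val_rev k
  rw [Finset.sum_eq_single k] at hc
  · rw [if_pos (by rw [Fin.lt_def]; omega)] at hc
    exact hc
  · intro i _ hik
    by_cases hi : i < i.rev
    · rw [if_pos hi]
      have hir : ((i.rev : Fin N) : ℕ) = N - (i + 1) := Fin.val_rev i
      have h1 : k.rev < i.rev := by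
        rw [Fin.lt_def] at hi ⊢
        have : (i : ℕ) ≠ k := fun e' => hik (Fin.ext e')
        have := i.2
        have := k.2
        omega
      rw [hup i.rev k.rev h1, mul_zero]
    · rw [if_neg hi]
  · intro hh
    exact absurd (Finset.mem_univ _) hh

/-- a lower triangular matrix preserving the quadratic form vanishes at the middle position -/
theorem IsQ.lower_mid {M : Matrix (Fin N) (Fin N) F} (h : IsQ M)
    (hlo : ∀ a b : Fin N, a < b → M a b = 0) (k : Fin N) (hk : (k : ℕ) + 1 = (k.rev : Fin N)) :
    M k k * M k.rev k = 0 := by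
  have hc := h.col k
  have hkr : ((k.rev : Fin N) : ℕ) = N - (k + 1) := Fin.val_rev k
  rw [Finset.sum_eq_single k] at hc
  · rw [if_pos (by rw [Fin.lt_def]; omega)] at hc
    exact hc
  · intro i _ hik
    by_cases hi : i < i.rev
    · rw [if_pos hi]
      have hir : ((i.rev : Fin N) : ℕ) = N - (i + 1) := Fin.val_rev i
      have h1 : i < k := by
        rw [Fin.lt_def] at hi ⊢
        have : (i : ℕ) ≠ k := fun e' => hik (Fin.ext e')
        have := i.2
        have := k.2
        omega
      rw [hlo i k h1, zero_mul]
    · rw [if_neg hi]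
  · intro hh
    exact absurd (Finset.mem_univ _) hh

section grp

variable [Finite F]

/-- the elements of the special orthogonal group preserving the quadratic form -/
def OD (N : ℕ) (F : Type*) [Field F] [Finite F] : Subgroup (SUm N F (RingHom.id F)) :=
  subgroupOfMul {g | IsQ ((gl g : GL (Fin N) F) : Matrix (Fin N) (Fin N) F)}
    (by show IsQ _; rw [gl_one]; exact isQ_one)
    (fun a b ha hb => by
      show IsQ _
      rw [gl_mul, Units.val_mul]
      exact IsQ.mul ha hb)

theorem mem_OD {g : SUm N F (RingHom.id F)} :
    g ∈ OD N F ↔ IsQ ((gl g : GL (Fin N) F) : Matrix (Fin N) (Fin N) F) := Iff.rfl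

end grp

end Cfsg.Agent.Lib.Helper5.AutDO
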