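import Cfsg.Agent.Lib.Helper5.AutDO.Shapes
import Mathlib

/-!
# `Ω⁺_{2κ+4}`: the unitriangular isometries lie in the group generated by the root subgroups
(helper5)

Row clearing: an upper unitriangular element of the special orthogonal group which preserves the
quadratic form is a product of positive root elements; the entries at the positions `(a, a.rev)`
vanish by the quadratic form once the other entries of the row are cleared.
-/

set_option autoImplicit false

namespace Cfsg.Agent.Lib.Helper5.AutDO

open Matrix Cfsg Cfsg.Agent.Lib.Helper5.GLBN Cfsg.Agent.Lib.Helper8.SpBN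
open Cfsg.Agent.Lib.Helper8.Tw Cfsg.Agent.PSUT Cfsg.Agent.Lib.Helper5.AutSU
open scoped MatrixGroups

variable {N : ℕ} {F : Type*} [Field F] [Fintype F]

/-- the step of the row clearing -/
theorem clear_step_D (hNe : N % 2 = 0) (H : Subgroup (SUm N F (RingHom.id F)))
    (h1 : ∀ a b : Fin N, a < b → a < b.rev → Sh N F (RingHom.id F) (PS a b) ⊆ H)
    {g : SUm N F (RingHom.id F)} (hg : g ∈ UU N F (RingHom.id F)) (hQ : g ∈ OD N F)
    (a b : Fin N) (hab : a < b)
    (hclr : ∀ i k : Fin N, i < k → (i < a ∨ (i = a ∧ k < b)) →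
      ((gl g : GL (Fin N) F) : Matrix (Fin N) (Fin N) F) i k = 0) :
    ∃ ξ ∈ H, ξ ∈ UU N F (RingHom.id F) ∧ ξ ∈ OD N F ∧ ∀ i k : Fin N, i < k →
      (i < a ∨ (i = a ∧ k ≤ b)) →
      ((gl (g * ξ) : GL (Fin N) F) : Matrix (Fin N) (Fin N) F) i k = 0 := by
  obtain ⟨hlow, hdiag⟩ := mem_UU.1 hg
  have hrow : ∀ i : Fin N, i < a → ∀ j, j ≠ i →
      ((gl g : GL (Fin N) F) : Matrix (Fin N) (Fin N) F) i j = 0 := by
    intro i hia j hji
    rcases lt_or_gt_of_ne hji with h | h
    · exact hlow i j h
    · exact hclr i j h (Or.inl hia)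
  -- the end of the row `a` vanishes by orthogonality
  have htail : ∀ k : Fin N, k.rev < a → a ≠ k →
      ((gl g : GL (Fin N) F) : Matrix (Fin N) (Fin N) F) a k = 0 := by
    intro k hk hak
    have hu := row_unitary (gl_mem_UH g) a k.rev
    rw [Finset.sum_eq_single k] at hu
    · rw [hdiag, RingHom.id_apply, mul_one, Fin.rev_rev, if_neg hak] at hu
      exact hu
    · intro i _ hik
      rw [hrow k.rev hk i.rev (fun e => hik (Fin.rev_injective e)), map_zero, mul_zero]
    · intro h
      exact absurd (Finset.mem_univ _) h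
  rcases lt_trichotomy b.rev a with hc | hc | hc
  · refine ⟨1, one_mem H, one_mem _, one_mem _, ?_⟩
    intro i k hik hlex
    rw [mul_one]
    rcases hlex with h | ⟨rfl, h⟩
    · exact hclr i k hik (Or.inl h)
    · rcases lt_or_eq_of_le h with h' | rfl
      · exact hclr _ k hik (Or.inr ⟨rfl, h'⟩)
      · exact htail _ hc (ne_of_lt hab)
  · -- the position `(a, a.rev)`: the entry vanishes by the quadratic form
    have hb : b = a.rev := by rw [← hc, Fin.rev_rev]
    subst hb
    have ha : a ≠ a.rev := ne_of_lt hab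
    -- the row `a`
    have hrowa : ∀ k : Fin N, k ≠ a → k ≠ a.rev →
        ((gl g : GL (Fin N) F) : Matrix (Fin N) (Fin N) F) a k = 0 := by
      intro k hka hkr
      rcases lt_or_gt_of_ne hka with h | h
      · exact hlow a k h
      · rcases lt_or_gt_of_ne hkr with h' | h'
        · exact hclr a k h (Or.inr ⟨rfl, h'⟩)
        · apply htail k _ hka.symm
          have := Fin.rev_lt_rev.2 h'
          rwa [Fin.rev_rev] at this
    -- the column `a.rev`
    have hcol : ∀ i : Fin N, a < i → i < a.rev →
        ((gl g : GL (Fin N) F) : Matrix (Fin N) (Fin N) F) i a.rev = 0 := by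
      intro i hai hir
      have hu := row_unitary (gl_mem_UH g) i a
      rw [if_neg (ne_of_lt hir), Finset.sum_eq_single a.rev] at hu
      · rw [Fin.rev_rev, hdiag, RingHom.id_apply, mul_one] at hu
        exact hu
      · intro l _ hl
        by_cases hla : l = a
        · rw [hla, hlow i a hai, zero_mul]
        · rw [hrowa l.rev (fun e => hl (by rw [← e, Fin.rev_rev]))
            (fun e => hla (Fin.rev_injective e)), map_zero, mul_zero]
      · intro h
        exact absurd (Finset.mem_univ _) h
    have hx : ((gl g : GL (Fin N) F) : Matrix (Fin N) (Fin N) F) a a.rev = 0 := by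
      have hq := (mem_OD.1 hQ).col a.rev
      rw [Finset.sum_eq_single a] at hq
      · rw [if_pos hab, hdiag, mul_one] at hq
        exact hq
      · intro i _ hia
        by_cases hi : i < i.rev
        · rw [if_pos hi]
          rcases lt_or_gt_of_ne hia with h | h
          · rw [hrow i h a.rev (fun e => absurd (e ▸ hab) (not_lt.2 h.le)), zero_mul]
          · have h2 : i < a.rev := by
              have h3 := Fin.rev_lt_rev.2 h
              exact lt_trans hi h3
            rw [hcol i h h2, zero_mul]
        · rw [if_neg hi]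
      · intro h
        exact absurd (Finset.mem_univ _) h
    refine ⟨1, one_mem H, one_mem _, one_mem _, ?_⟩
    intro i k hik hlex
    rw [mul_one]
    rcases hlex with h | ⟨rfl, h⟩
    · exact hclr i k hik (Or.inl h)
    · rcases lt_or_eq_of_le h with h' | rfl
      · exact hclr _ k hik (Or.inr ⟨rfl, h'⟩)
      · exact hx
  · -- the position of a root
    have hba : b < a.rev := by
      have := Fin.rev_lt_rev.2 hc
      rwa [Fin.rev_rev] at this
    have hne : a ≠ b := ne_of_lt hab
    have hne1 : a ≠ b.rev := ne_of_lt hc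
    have hne2 : a ≠ a.rev := ne_of_lt (lt_trans hab hba)
    have hne3 : b ≠ a.rev := ne_of_lt hba
    have hm : b ≠ b.rev := by
      apply fin_ne
      rw [Fin.val_rev]
      have := b.2
      omega
    obtain ⟨x, hxdef⟩ : ∃ x : F, ((gl g : GL (Fin N) F) : Matrix (Fin N) (Fin N) F) a b = x :=
      ⟨_, rfl⟩
    refine ⟨mk1 (xS (RingHom.id F) a b hne (-x)) (xS_mem_UH idinv a b hne hne1 hne2 hm (-x))
      (det_xS (RingHom.id F) a b hne (-x)),
      h1 a b hab hc (xS_mem_Sh idinv a b hne hne1 hne2 hm (-x)), ?_, ?_, ?_⟩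
    · rw [mem_UU, gl_mk1]
      exact xS_isUpU hab (-x)
    · rw [mem_OD, gl_mk1]
      exact isQ_xS a b hne hne2 hm (-x)
    · intro i k hik hlex
      rw [gl_mul, Units.val_mul, gl_mk1, mul_xS_apply _ (RingHom.id F) a b hne hm]
      rcases hlex with h | ⟨rfl, h⟩
      · rw [hclr i k hik (Or.inl h), hrow i h a (ne_of_gt h),
          hrow i h b.rev (ne_of_gt (lt_trans h hc))]
        simp
      · rcases lt_or_eq_of_le h with h' | rfl
        · rw [hclr _ k hik (Or.inr ⟨rfl, h'⟩), if_neg (ne_of_lt h'),
            if_neg (ne_of_lt (lt_trans h' hba)), add_zero, add_zero]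
        · rw [if_pos rfl, if_neg hne3, hdiag, one_mul, hxdef, add_zero]
          exact add_neg_cancel x

/-- the upper unitriangular isometries lie in every subgroup which contains the positive root
subgroups -/
theorem UD_le (hNe : N % 2 = 0) (H : Subgroup (SUm N F (RingHom.id F)))
    (h1 : ∀ a b : Fin N, a < b → a < b.rev → Sh N F (RingHom.id F) (PS a b) ⊆ H) :
    UU N F (RingHom.id F) ⊓ OD N F ≤ H := by
  have key : ∀ m n : ℕ, n + m = N * N → ∀ g ∈ UU N F (RingHom.id F), g ∈ OD N F →
      Clr n ((gl g : GL (Fin N) F) : Matrix (Fin N) (Fin N) F) → g ∈ H := by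
    intro m
    induction m with
    | zero =>
      intro n hn g hg _ hclr
      have e : g = 1 := by
        apply gl_injective
        apply Units.ext
        rw [gl_one, Units.val_one]
        ext i k
        rcases lt_trichotomy i k with h | h | h
        · rw [Matrix.one_apply_ne (ne_of_lt h)]
          apply hclr i k h
          have hi := i.2
          have hk := k.2
          have h5 : ((i : ℕ) + 1) * N ≤ N * N := Nat.mul_le_mul_right N hi
          have e5 : ((i : ℕ) + 1) * N = (i : ℕ) * N + N := by ring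
          omega
        · rw [h, (mem_UU.1 hg).2, Matrix.one_apply_eq]
        · rw [(mem_UU.1 hg).1 i k h, Matrix.one_apply_ne (ne_of_gt h)]
      rw [e]
      exact one_mem H
    | succ m ih =>
      intro n hn g hg hQ hclr
      have hnlt : n < N * N := by omega
      have hN : 0 < N := by
        rcases Nat.eq_zero_or_pos N with h | h
        · subst h
          simp at hnlt
        · exact h
      have ha : n / N < N := Nat.div_lt_of_lt_mul hnlt
      have hb : n % N < N := Nat.mod_lt _ hN
      have hcode : (n / N) * N + n % N = n := Nat.div_add_mod' n N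
      have hclr' : Clr (((⟨n / N, ha⟩ : Fin N) : ℕ) * N + ((⟨n % N, hb⟩ : Fin N) : ℕ))
          ((gl g : GL (Fin N) F) : Matrix (Fin N) (Fin N) F) := by
        show Clr ((n / N) * N + n % N) _
        rw [hcode]
        exact hclr
      have hsucc : ∀ g' : SUm N F (RingHom.id F), g' ∈ UU N F (RingHom.id F) → g' ∈ OD N F →
          (∀ i k : Fin N, i < k → (i < (⟨n / N, ha⟩ : Fin N) ∨
            (i = (⟨n / N, ha⟩ : Fin N) ∧ k ≤ (⟨n % N, hb⟩ : Fin N))) →
            ((gl g' : GL (Fin N) F) : Matrix (Fin N) (Fin N) F) i k = 0) → g' ∈ H := by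
        intro g' hg' hQ' h
        apply ih (n + 1) (by omega) g' hg' hQ'
        have := clr_succ (a := (⟨n / N, ha⟩ : Fin N)) (b := (⟨n % N, hb⟩ : Fin N)) h
        have e : ((⟨n / N, ha⟩ : Fin N) : ℕ) * N + ((⟨n % N, hb⟩ : Fin N) : ℕ) + 1 = n + 1 := by
          show (n / N) * N + n % N + 1 = n + 1
          rw [hcode]
        rwa [e] at this
      by_cases hab : (⟨n / N, ha⟩ : Fin N) < ⟨n % N, hb⟩
      · obtain ⟨ξ, hξH, hξU, hξQ, hξ⟩ := clear_step_D hNe H h1 hg hQ _ _ hab
          (fun i k hik hlex => clr_use hclr' i k hik hlex)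
        have h5 := hsucc (g * ξ) (mul_mem hg hξU) (mul_mem hQ hξQ) hξ
        have e : g = g * ξ * ξ⁻¹ := by group
        rw [e]
        exact mul_mem h5 (inv_mem hξH)
      · apply hsucc g hg hQ
        intro i k hik hlex
        rcases hlex with hl | ⟨rfl, hl⟩
        · exact clr_use hclr' i k hik (Or.inl hl)
        · rcases lt_or_eq_of_le hl with hl' | rfl
          · exact clr_use hclr' _ k hik (Or.inr ⟨rfl, hl'⟩)
          · exact absurd hik hab
  rintro g ⟨hg, hQ⟩
  exact key (N * N) 0 (by omega) g hg hQ (fun i k _ h => absurd h (Nat.not_lt_zero _))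

namespace DC

variable (C : DC N)

/-- the unitriangular isometries lie in the model -/
theorem UD_le_GD : UU N F (RingHom.id F) ⊓ OD N F ≤ C.GD (F := F) :=
  UD_le (by have := C.hN; omega) _ (fun a b hab hab' => C.PS_le_GD a b hab hab')

/-- the unitriangular elements of the model are the unitriangular isometries -/
theorem UU_inf_GD : UU N F (RingHom.id F) ⊓ C.GD (F := F) = UU N F (RingHom.id F) ⊓ OD N F :=
  le_antisymm (fun _ hg => ⟨hg.1, C.GD_le_OD hg.2⟩) (fun _ hg => ⟨hg.1, C.UD_le_GD hg⟩)

end DC

end Cfsg.Agent.Lib.Helper5.AutDO
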