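import Cfsg.Agent.Lib.Helper5.AutDO.Defs
import Mathlib

/-!
# `Ω⁺_{2κ+4}`: the monomial elements of the nodes and the propagation of the root subgroups (helper5)

The monomial elements `nS j` of the chain nodes and `nF` of the fork node; every positive root
subgroup (shape `PS a b`, `a < b`, `a < b.rev`) lies in a subgroup containing the fundamental ones
and the monomial elements (`GoodD.PS_all`), in particular in `GD`.
-/

set_option autoImplicit false

namespace Cfsg.Agent.Lib.Helper5.AutDO

open Matrix Cfsg Cfsg.Agent.Lib.Helper5.GLBN Cfsg.Agent.Lib.Helper8.SpBN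
open Cfsg.Agent.Lib.Helper8.Tw Cfsg.Agent.PSUT Cfsg.Agent.Lib.Helper5.AutSU
open scoped MatrixGroups

variable {N : ℕ} {F : Type*} [Field F] [Fintype F]

/-- the monomial element of a chain node -/
def nS (j : ℕ) (hj : 2 * j + 4 ≤ N) : SUm N F (RingHom.id F) :=
  xpS idinv j hj 1 * xmS idinv j hj (-1) * xpS idinv j hj 1

theorem nS_mem_LL (j : ℕ) (hj : 2 * j + 4 ≤ N) :
    (nS j hj : SUm N F (RingHom.id F)) ∈ LL N F (RingHom.id F) j :=
  mul_mem (mul_mem (Xp_le_LL j (xpS_mem_Xp idinv j hj 1))
    (Xm_le_LL j (xmS_mem_Xm idinv j hj (-1)))) (Xp_le_LL j (xpS_mem_Xp idinv j hj 1))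

/-- the monomial element of a chain node induces the reflection of the node -/
theorem isMono_nS (j : ℕ) (hs : 2 * j + 4 ≤ N) :
    IsMono ((gl (nS j hs : SUm N F (RingHom.id F)) : GL (Fin N) F) : Matrix (Fin N) (Fin N) F)
      (rho N j) := by
  have hj : j + 1 < N / 2 := by omega
  have ha : j < N := by omega
  have hb : j + 1 < N := by omega
  unfold nS
  rw [gl_mul, gl_mul, gl_xpS, gl_xmS]
  have hra : (((⟨j, ha⟩ : Fin N).rev : Fin N) : ℕ) = N - (j + 1) := by rw [Fin.val_rev]
  have hrb : (((⟨j + 1, hb⟩ : Fin N).rev : Fin N) : ℕ) = N - (j + 1 + 1) := by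
    rw [Fin.val_rev]
  obtain ⟨r1, r2, r3, r4, r5⟩ := short_mono_rows (RingHom.id F) (⟨j, ha⟩ : Fin N) ⟨j + 1, hb⟩
    (fin_ne (by simp)) (fin_ne (by rw [hrb]; simp only; omega))
    (fin_ne (by rw [hra]; simp only; omega)) (fin_ne (by rw [hrb]; simp only; omega))
  intro i k hik
  by_cases h1 : i = ⟨j, ha⟩
  · rw [h1, r1, if_neg]
    intro e
    apply hik
    rw [h1, ← e]
    apply Fin.ext
    rw [rho_val_short hj]
    simp
  · by_cases h2 : i = ⟨j + 1, hb⟩
    · rw [h2, r2, if_neg]
      intro e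
      apply hik
      rw [h2, ← e]
      apply Fin.ext
      rw [rho_val_short hj]
      simp
    · by_cases h3 : i = (⟨j + 1, hb⟩ : Fin N).rev
      · rw [h3, r3, if_neg]
        intro e
        apply hik
        rw [h3, ← e]
        apply Fin.ext
        rw [rho_val_short hj, hra, hrb]
        split_ifs <;> omega
      · by_cases h4 : i = (⟨j, ha⟩ : Fin N).rev
        · rw [h4, r4, if_neg]
          intro e
          apply hik
          rw [h4, ← e]
          apply Fin.ext
          rw [rho_val_short hj, hra, hrb]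
          split_ifs <;> omega
        · rw [r5 i k h1 h2 h4 h3, if_neg]
          intro e
          apply hik
          rw [← e]
          apply Fin.ext
          have hv1 : (i : ℕ) ≠ j := fun e' => h1 (Fin.ext e')
          have hv2 : (i : ℕ) ≠ j + 1 := fun e' => h2 (Fin.ext e')
          have hv3 : (i : ℕ) ≠ N - (j + 1 + 1) := fun e' => h3 (Fin.ext (by rw [hrb]; exact e'))
          have hv4 : (i : ℕ) ≠ N - (j + 1) := fun e' => h4 (Fin.ext (by rw [hra]; exact e'))
          rw [rho_val_short hj]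
          split_ifs <;> omega

namespace DC

variable (C : DC N)

/-- the reflection of the fork node -/
def rhoF : Equiv.Perm (Fin N) := C.tau * rho N C.κ * C.tau

theorem rhoF_val (x : Fin N) : ((C.rhoF x : Fin N) : ℕ) =
    if (x : ℕ) = C.κ then C.κ + 2 else if (x : ℕ) = C.κ + 2 then C.κ
    else if (x : ℕ) = C.κ + 1 then C.κ + 3 else if (x : ℕ) = C.κ + 3 then C.κ + 1 else x := by
  have hN := C.hN
  have hx := x.2
  unfold rhoF
  rw [Equiv.Perm.mul_apply, Equiv.Perm.mul_apply, tau_val, rho_val_short (by omega), tau_val]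
  split_ifs <;> omega

theorem rhoF_mul_self : C.rhoF * C.rhoF = 1 := by
  unfold rhoF
  have h1 := C.tau_mul_self
  have h2 : rho N C.κ * rho N C.κ = 1 := rho_sq C.κ (by have := C.hN; omega)
  calc C.tau * rho N C.κ * C.tau * (C.tau * rho N C.κ * C.tau)
      = C.tau * rho N C.κ * (C.tau * C.tau) * rho N C.κ * C.tau := by group
    _ = C.tau * (rho N C.κ * rho N C.κ) * C.tau := by rw [h1]; group
    _ = 1 := by rw [h2, mul_one, h1]

theorem rhoF_rev (x : Fin N) : C.rhoF x.rev = (C.rhoF x).rev := by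
  unfold rhoF
  rw [Equiv.Perm.mul_apply, Equiv.Perm.mul_apply, Equiv.Perm.mul_apply, Equiv.Perm.mul_apply,
    tau_rev, rho_rev (by have := C.hN; omega), tau_rev]

/-- the monomial element of the fork node -/
noncomputable def nF : SUm N F (RingHom.id F) :=
  C.Gam (nS C.κ (by have := C.hN; omega))

theorem isMono_nF :
    IsMono ((gl (C.nF : SUm N F (RingHom.id F)) : GL (Fin N) F) : Matrix (Fin N) (Fin N) F)
      C.rhoF := by
  unfold nF rhoF
  rw [gl_Gam, ← map_inv, C.tau_inv, Units.val_mul, Units.val_mul]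
  exact ((isMono_permGL C.tau).mul (isMono_nS C.κ _)).mul (isMono_permGL C.tau)

theorem nF_mem_GD : (C.nF : SUm N F (RingHom.id F)) ∈ C.GD (F := F) :=
  C.fork_le_GD ⟨_, nS_mem_LL C.κ _, rfl⟩

theorem nS_mem_GD {j : ℕ} (hj : j ≤ C.κ) :
    (nS j (by have := C.hN; omega) : SUm N F (RingHom.id F)) ∈ C.GD (F := F) :=
  C.LL_le_GD hj (nS_mem_LL j _)

/-- a subgroup containing the fundamental positive root subgroups and, for every node, a monomial
element inducing the reflection of the node -/
structure GoodD (H : Subgroup (SUm N F (RingHom.id F))) : Prop where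
  hX : ∀ j, j ≤ C.κ → Xp N F (RingHom.id F) j ≤ H
  hn : ∀ j, j ≤ C.κ → ∃ n ∈ H,
    IsMono ((gl n : GL (Fin N) F) : Matrix (Fin N) (Fin N) F) (rho N j)
  hXf : Sh N F (RingHom.id F)
    (PS (⟨C.κ, by have := C.hN; omega⟩ : Fin N) ⟨C.κ + 2, by have := C.hN; omega⟩) ⊆ H
  hnf : ∃ n ∈ H, IsMono ((gl n : GL (Fin N) F) : Matrix (Fin N) (Fin N) F) C.rhoF

variable {C} {H : Subgroup (SUm N F (RingHom.id F))}

theorem GoodD.PS_I (h : C.GoodD H) : ∀ d a b : ℕ, ∀ (ha : a < N) (hb : b < N), b < N / 2 →
    b = a + 1 + d → Sh N F (RingHom.id F) (PS (⟨a, ha⟩ : Fin N) ⟨b, hb⟩) ⊆ H := by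
  have hN := C.hN
  intro d
  induction d with
  | zero =>
    intro a b ha hb hbl hab
    have hab' : b = a + 1 := by omega
    subst hab'
    intro g hg
    exact h.hX a (by omega) (sh_PS_le_Xp (by omega) hg)
  | succ d ih =>
    intro a b ha hb hbl hab
    have hb1 : b - 1 < N := by omega
    have ih' := ih a (b - 1) ha hb1 (by omega) (by omega)
    have hj : (b - 1) + 1 < N / 2 := by omega
    obtain ⟨n, hnH, hn⟩ := h.hn (b - 1) (by omega)
    apply good_step H hnH hn ih'
    intro i k hik
    apply PS_comp (rho N (b - 1)) (rho_sq (b - 1) (by omega)) (rho_rev (by omega))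
    have e1 : rho N (b - 1) ⟨a, ha⟩ = ⟨a, ha⟩ :=
      rho_fix_short hj _ (by simp only; omega) (by simp only; omega) (by simp only; omega)
        (by simp only; omega)
    have e2 : rho N (b - 1) ⟨b - 1, hb1⟩ = ⟨b, hb⟩ :=
      rho_short_up hj _ _ rfl (by simp only; omega)
    rw [e1, e2]
    exact hik

theorem GoodD.PS_II (h : C.GoodD H) : ∀ d a c : ℕ, ∀ (ha : a < N) (hc : c < N), a < c →
    c + d + 1 = N / 2 →
      Sh N F (RingHom.id F) (PS (⟨a, ha⟩ : Fin N) (⟨c, hc⟩ : Fin N).rev) ⊆ H := by
  have hN := C.hN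
  intro d
  induction d with
  | zero =>
    intro a c ha hc hac hcl
    have hcκ : c = C.κ + 1 := by omega
    have e0 : (⟨c, hc⟩ : Fin N).rev = ⟨C.κ + 2, by omega⟩ := by
      apply Fin.ext
      rw [Fin.val_rev]
      simp only
      omega
    rw [e0]
    rcases Nat.lt_or_ge a C.κ with hlt | hge
    · have h1 := h.PS_I (C.κ - a - 1) a C.κ ha (by omega) (by omega) (by omega)
      obtain ⟨n, hnH, hn⟩ := h.hnf
      apply good_step H hnH hn h1
      intro i k hik
      apply PS_comp C.rhoF C.rhoF_mul_self C.rhoF_rev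
      have e1 : C.rhoF ⟨a, ha⟩ = ⟨a, ha⟩ := by
        apply Fin.ext
        rw [rhoF_val]
        simp only
        split_ifs <;> omega
      have e2 : C.rhoF ⟨C.κ, by omega⟩ = ⟨C.κ + 2, by omega⟩ := by
        apply Fin.ext
        rw [rhoF_val]
        simp
      rw [e1, e2]
      exact hik
    · have e1 : (⟨a, ha⟩ : Fin N) = ⟨C.κ, by omega⟩ := Fin.ext (by simp only; omega)
      rw [e1]
      exact h.hXf
  | succ d ih =>
    intro a c ha hc hac hcl
    have hc1 : c + 1 < N := by omega
    have ih' := ih a (c + 1) ha hc1 (by omega) (by omega)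
    have hj : c + 1 < N / 2 := by omega
    obtain ⟨n, hnH, hn⟩ := h.hn c (by omega)
    apply good_step H hnH hn ih'
    intro i k hik
    apply PS_comp (rho N c) (rho_sq c (by omega)) (rho_rev (by omega))
    have e1 : rho N c ⟨a, ha⟩ = ⟨a, ha⟩ :=
      rho_fix_short hj _ (by simp only; omega) (by simp only; omega) (by simp only; omega)
        (by simp only; omega)
    have e2 : rho N c (⟨c + 1, hc1⟩ : Fin N).rev = (⟨c, hc⟩ : Fin N).rev := by
      rw [rho_rev (by omega), rho_short_down hj _ ⟨c, hc⟩ rfl rfl]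
    rw [e1, e2]
    exact hik

/-- all positive root subgroups lie in `H` -/
theorem GoodD.PS_all (h : C.GoodD H) (a b : Fin N) (hab : a < b) (hab' : a < b.rev) :
    Sh N F (RingHom.id F) (PS a b) ⊆ H := by
  have hN := C.hN
  have hab1 : (a : ℕ) < b := hab
  have hab2 : (a : ℕ) < (b.rev : Fin N) := hab'
  have hbr : ((b.rev : Fin N) : ℕ) = N - (b + 1) := Fin.val_rev b
  have hb2 := b.2
  by_cases hbl : (b : ℕ) < N / 2
  · exact h.PS_I ((b : ℕ) - a - 1) a b a.2 b.2 hbl (by omega)
  · have h1 := h.PS_II (N / 2 - 1 - (b.rev : Fin N)) a (b.rev : Fin N) a.2 (b.rev).2 hab2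
      (by omega)
    have e : (⟨((b.rev : Fin N) : ℕ), (b.rev).2⟩ : Fin N).rev = b := by
      rw [Fin.eta, Fin.rev_rev]
    rw [e] at h1
    exact h1

variable (C)

/-- the model is good -/
theorem goodD_GD : C.GoodD (C.GD (F := F)) where
  hX j hj := le_trans (Xp_le_LL j) (C.LL_le_GD hj)
  hn j hj := ⟨nS j (by have := C.hN; omega), C.nS_mem_GD hj, isMono_nS j _⟩
  hXf := by
    have hN := C.hN
    intro g hg
    show g ∈ C.GD (F := F)
    rw [← C.Gam_mem_GD_iff]
    apply C.LL_le_GD le_rfl
    apply Xp_le_LL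
    apply sh_PS_le_Xp (by omega)
    refine sh_mono ?_ (C.Gam_sh hg)
    intro i k hik
    have hi := i.2
    have hk := k.2
    have h1 := C.tau_val i
    have h2 := C.tau_val k
    rcases hik with ⟨e1, e2⟩ | ⟨e1, e2⟩
    · left
      have e1' := congrArg Fin.val e1
      have e2' := congrArg Fin.val e2
      simp only at e1' e2'
      rw [h1] at e1'
      rw [h2] at e2'
      constructor
      · apply Fin.ext
        simp only
        split_ifs at e1' <;> omega
      · apply Fin.ext
        simp only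
        split_ifs at e2' <;> omega
    · right
      have e1' := congrArg Fin.val e1
      have e2' := congrArg Fin.val e2
      rw [Fin.val_rev] at e1' e2'
      simp only at e1' e2'
      rw [h1] at e1'
      rw [h2] at e2'
      constructor
      · apply Fin.ext
        rw [Fin.val_rev]
        simp only
        split_ifs at e1' <;> omega
      · apply Fin.ext
        rw [Fin.val_rev]
        simp only
        split_ifs at e2' <;> omega
  hnf := ⟨C.nF, C.nF_mem_GD, C.isMono_nF⟩

/-- all positive root subgroups lie in the model -/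
theorem PS_le_GD (a b : Fin N) (hab : a < b) (hab' : a < b.rev) :
    Sh N F (RingHom.id F) (PS a b) ⊆ C.GD (F := F) :=
  C.goodD_GD.PS_all a b hab hab'

end DC

end Cfsg.Agent.Lib.Helper5.AutDO
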